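import Groth.Agent.Sga7.H598.SNDef
import Mathlib.RingTheory.QuasiFinite.Basic
import Mathlib.RingTheory.LocalProperties.Basic
import Mathlib.RingTheory.LocalProperties.Reduced
import Mathlib.RingTheory.DiscreteValuationRing.Basic
import Mathlib.RingTheory.Length
import Mathlib.RingTheory.Nakayama
import Mathlib.RingTheory.Ideal.GoingUp

/-!
# The normalization of a nodal local ring

`A` is a local ring with maximal ideal `m`, `B` a finite `A`-algebra containing `A` all of whose
localizations at maximal ideals are discrete valuation rings, and `m ^ N B ⊆ A` for some `N`.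

* `mem_range_of_mem_all`: if `A` is seminormal, the Jacobson radical of `B` is contained in `A`;
* `exists_generator`: the Jacobson radical of `B` is generated by a nonzerodivisor;
* `Data`: the resulting conclusions: `m B = m`, `B ≃ m` as `A`-modules;
* `length_quotient`: `B / A` has length one if `m / m²` has length two.
-/

set_option autoImplicit false
set_option linter.style.haveILetI false
universe u

open IsLocalRing

namespace K977.NodeAlg

open Groth.Agent.Sga7.H598.SNDef

section Semilocal

variable (B : Type u) [CommRing B]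

/-- all localizations at maximal ideals are discrete valuation rings -/
def LocDVR : Prop :=
  ∀ (n : Ideal B) [n.IsMaximal], ∃ _ : IsDomain (Localization.AtPrime n),
    IsDiscreteValuationRing (Localization.AtPrime n)

variable {B}

theorem LocDVR.isReduced (h : LocDVR B) : _root_.IsReduced B := by
  refine ⟨fun b hb => ?_⟩
  apply eq_zero_of_localization
  intro n hn
  obtain ⟨h1, h2⟩ := h n
  exact (hb.map (algebraMap B (Localization.AtPrime n))).eq_zero

theorem dvr_generator {O : Type u} [CommRing O] [IsDomain O] [IsDiscreteValuationRing O] (t : O)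
    (ht : t ∈ maximalIdeal O) (ht2 : t ∉ maximalIdeal O ^ 2) :
    Ideal.span {t} = maximalIdeal O ∧ t ≠ 0 := by
  obtain ⟨ϖ, hϖ⟩ := IsDiscreteValuationRing.exists_irreducible O
  have hm := hϖ.maximalIdeal_eq
  rw [hm, Ideal.mem_span_singleton] at ht
  obtain ⟨v, rfl⟩ := ht
  have hv : IsUnit v := by
    by_contra hv
    apply ht2
    have hv' : v ∈ maximalIdeal O := hv
    rw [hm, Ideal.mem_span_singleton] at hv'
    obtain ⟨w, rfl⟩ := hv'
    rw [hm, Ideal.span_singleton_pow, Ideal.mem_span_singleton]
    exact ⟨w, by ring⟩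
  refine ⟨?_, ?_⟩
  · rw [hm]
    exact Ideal.span_singleton_mul_right_unit hv ϖ
  · exact mul_ne_zero hϖ.ne_zero hv.ne_zero

theorem exists_local_generator (h : LocDVR B) (n : Ideal B) [hn : n.IsMaximal] :
    ∃ t ∈ n, algebraMap B (Localization.AtPrime n) t ∉
      maximalIdeal (Localization.AtPrime n) ^ 2 := by
  obtain ⟨h1, h2⟩ := h n
  by_contra hcon
  push Not at hcon
  have h3 : maximalIdeal (Localization.AtPrime n) ≤ maximalIdeal (Localization.AtPrime n) ^ 2 := by
    rw [← Localization.AtPrime.map_eq_maximalIdeal, Ideal.map_le_iff_le_comap]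
    intro t ht
    have := hcon t ht
    rwa [← Localization.AtPrime.map_eq_maximalIdeal] at this
  have h4 : maximalIdeal (Localization.AtPrime n) = ⊥ := by
    refine Submodule.eq_bot_of_le_smul_of_le_jacobson_bot (maximalIdeal (Localization.AtPrime n))
      (maximalIdeal (Localization.AtPrime n)) (IsNoetherian.noetherian _) ?_ ?_
    · rwa [smul_eq_mul, ← pow_two]
    · exact IsLocalRing.maximalIdeal_le_jacobson _
  exact IsDiscreteValuationRing.not_a_field _ h4

/-- The Jacobson radical of a semilocal ring with discrete valuation rings as localizations is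
generated by a nonzerodivisor. -/
theorem exists_generator (h : LocDVR B) (hfin : {n : Ideal B | n.IsMaximal}.Finite) :
    ∃ t : B, (∀ b, t * b = 0 → b = 0) ∧
      ∀ b : B, (∀ n : Ideal B, n.IsMaximal → b ∈ n) ↔ ∃ c, b = t * c := by
  haveI : Finite {n : Ideal B | n.IsMaximal} := hfin
  choose s hs1 hs2 using fun n : {n : Ideal B | n.IsMaximal} =>
    (haveI : n.1.IsMaximal := n.2; exists_local_generator h n.1)
  have hco : Pairwise (Function.onFun IsCoprime
      (fun n : {n : Ideal B | n.IsMaximal} => n.1 ^ 2)) := by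
    intro n n' hne
    have h1 : n.1.IsMaximal := n.2
    have h2 : n'.1.IsMaximal := n'.2
    exact (Ideal.isCoprime_of_isMaximal (fun e => hne (Subtype.ext e))).pow
  obtain ⟨t, ht⟩ := Ideal.exists_forall_sub_mem_ideal hco s
  have ht1 : ∀ (n : Ideal B), n.IsMaximal → t ∈ n := by
    intro n hn
    have h1 := Ideal.pow_le_self two_ne_zero (ht ⟨n, hn⟩)
    have h2 := n.add_mem h1 (hs1 ⟨n, hn⟩)
    simpa using h2
  have ht2 : ∀ (n : Ideal B) [hn : n.IsMaximal], algebraMap B (Localization.AtPrime n) t ∉
      maximalIdeal (Localization.AtPrime n) ^ 2 := by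
    intro n hn hmem
    apply hs2 ⟨n, hn⟩
    have h1 : algebraMap B (Localization.AtPrime n) (t - s ⟨n, hn⟩) ∈
        maximalIdeal (Localization.AtPrime n) ^ 2 := by
      rw [← Localization.AtPrime.map_eq_maximalIdeal, ← Ideal.map_pow]
      exact Ideal.mem_map_of_mem _ (ht ⟨n, hn⟩)
    have h2 := Ideal.sub_mem _ hmem h1
    rw [← map_sub] at h2
    simpa using h2
  have ht3 : ∀ (n : Ideal B) [hn : n.IsMaximal],
      Ideal.span {algebraMap B (Localization.AtPrime n) t} =
        maximalIdeal (Localization.AtPrime n) ∧ algebraMap B (Localization.AtPrime n) t ≠ 0 := by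
    intro n hn
    obtain ⟨h1, h2⟩ := h n
    refine dvr_generator _ ?_ (ht2 n)
    rw [← Localization.AtPrime.map_eq_maximalIdeal]
    exact Ideal.mem_map_of_mem _ (ht1 n hn)
  refine ⟨t, ?_, ?_⟩
  · intro b hb
    apply eq_zero_of_localization
    intro n hn
    obtain ⟨h1, h2⟩ := h n
    have h4 : algebraMap B (Localization.AtPrime n) t * algebraMap B (Localization.AtPrime n) b
      = 0 := by rw [← map_mul, hb, map_zero]
    exact (mul_eq_zero.1 h4).resolve_left (ht3 n).2
  · intro b
    constructor
    · intro hb
      have : b ∈ Ideal.span {t} := by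
        apply Ideal.mem_of_localization_maximal
        intro n hn
        rw [Ideal.map_span, Set.image_singleton, (ht3 n).1,
          ← Localization.AtPrime.map_eq_maximalIdeal]
        exact Ideal.mem_map_of_mem _ (hb n hn)
      rw [Ideal.mem_span_singleton] at this
      exact this
    · rintro ⟨c, rfl⟩ n hn
      exact n.mul_mem_right c (ht1 n hn)

end Semilocal

section Node

variable (A B : Type u) [CommRing A] [IsLocalRing A] [CommRing B] [Algebra A B] [Module.Finite A B]

/-- The hypotheses on a local ring `A` and its normalization `B`. -/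
structure Hyp : Prop where
  inj : Function.Injective (algebraMap A B)
  loc : LocDVR B
  sn : SN A
  cond : ∃ N : ℕ, ∀ a ∈ maximalIdeal A ^ N, ∀ b : B, algebraMap A B a * b ∈ (algebraMap A B).range

variable {A B}

omit [IsLocalRing A] [Module.Finite A B] in
theorem mem_range_of_pow (hinj : Function.Injective (algebraMap A B)) [_root_.IsReduced B]
    (h : SN A) (b : B) : ∀ M : ℕ, (∀ j, M ≤ j → b ^ j ∈ (algebraMap A B).range) →
      b ∈ (algebraMap A B).range := by
  intro M
  induction M with
  | zero => intro hM; simpa using hM 1 (by omega)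
  | succ M IH =>
    intro hM
    rcases Nat.eq_zero_or_pos M with rfl | hpos
    · simpa using hM 1 (by omega)
    · apply IH
      intro j hj
      rcases Nat.lt_or_ge M j with h1 | h1
      · exact hM j h1
      · have : j = M := by omega
        subst this
        apply SN.mem_range hinj h
        · rw [← pow_mul]
          exact hM _ (by omega)
        · rw [← pow_mul]
          exact hM _ (by omega)

theorem comap_eq (n : Ideal B) [n.IsMaximal] :
    n.comap (algebraMap A B) = maximalIdeal A :=
  haveI := Ideal.isMaximal_comap_of_isIntegral_of_isMaximal (R := A) n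
  IsLocalRing.eq_maximalIdeal inferInstance

theorem finite_maximal (A B : Type u) [CommRing A] [IsLocalRing A] [CommRing B] [Algebra A B]
    [Module.Finite A B] : {n : Ideal B | n.IsMaximal}.Finite := by
  refine (Algebra.QuasiFinite.finite_primesOver (R := A) (S := B) (maximalIdeal A)).subset ?_
  intro n hn
  have hn' : n.IsMaximal := hn
  exact ⟨hn'.isPrime, ⟨(comap_eq (A := A) n).symm⟩⟩

theorem Hyp.mem_range (h : Hyp A B) (b : B) (hb : ∀ n : Ideal B, n.IsMaximal → b ∈ n) :
    b ∈ (algebraMap A B).range := by
  have hred := h.loc.isReduced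
  obtain ⟨N, hN⟩ := h.cond
  have hrad : b ∈ ((maximalIdeal A).map (algebraMap A B)).radical := by
    rw [Ideal.radical_eq_sInf, Ideal.mem_sInf]
    intro q hq
    obtain ⟨hq1, hq2⟩ := hq
    apply hb
    have h1 : maximalIdeal A ≤ q.comap (algebraMap A B) := Ideal.map_le_iff_le_comap.1 hq1
    have h2 : q.comap (algebraMap A B) = maximalIdeal A :=
      ((maximalIdeal.isMaximal A).eq_of_le (Ideal.IsPrime.ne_top inferInstance) h1).symm
    apply Ideal.isMaximal_of_isIntegral_of_isMaximal_comap (R := A) q
    rw [h2]
    exact maximalIdeal.isMaximal A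
  obtain ⟨n, hn⟩ := hrad
  have key' : ∀ x ∈ (maximalIdeal A ^ N).map (algebraMap A B), ∀ c : B,
      x * c ∈ (algebraMap A B).range := by
    intro x hx
    rw [Ideal.map, Ideal.span] at hx
    induction hx using Submodule.span_induction with
    | mem x hx =>
      obtain ⟨a, ha, rfl⟩ := hx
      exact hN a ha
    | zero =>
      intro c
      rw [zero_mul]
      exact Subring.zero_mem _
    | add x y _ _ hx hy =>
      intro c
      rw [add_mul]
      exact Subring.add_mem _ (hx c) (hy c)
    | smul c x _ hx =>
      intro c'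
      rw [smul_eq_mul, mul_assoc, mul_left_comm]
      exact hx _
  have key : ∀ x ∈ (maximalIdeal A ^ N).map (algebraMap A B), x ∈ (algebraMap A B).range := by
    intro x hx
    simpa using key' x hx 1
  apply mem_range_of_pow h.inj h.sn b (n * N)
  intro j hj
  obtain ⟨i, rfl⟩ := Nat.exists_eq_add_of_le hj
  apply key
  rw [pow_add, pow_mul]
  apply Ideal.mul_mem_right
  rw [Ideal.map_pow]
  exact Ideal.pow_mem_pow hn N

theorem mem_maximal (a : A) (ha : a ∈ maximalIdeal A) (n : Ideal B) (hn : n.IsMaximal) :
    algebraMap A B a ∈ n := by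
  have h1 := comap_eq (A := A) n
  rw [← h1] at ha
  exact ha

/-- every element of the Jacobson radical of `B` comes from `m` -/
theorem Hyp.exists_of_mem [Nontrivial B] (h : Hyp A B) (b : B)
    (hb : ∀ n : Ideal B, n.IsMaximal → b ∈ n) : ∃ a ∈ maximalIdeal A, algebraMap A B a = b := by
  obtain ⟨a, rfl⟩ := h.mem_range b hb
  refine ⟨a, ?_, rfl⟩
  obtain ⟨n, hn⟩ := Ideal.exists_maximal B
  rw [← comap_eq (A := A) n]
  exact hb n hn

theorem Hyp.conductor [Nontrivial B] (h : Hyp A B) (a : A) (ha : a ∈ maximalIdeal A) (b : B) :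
    ∃ a' ∈ maximalIdeal A, algebraMap A B a' = algebraMap A B a * b :=
  h.exists_of_mem _ fun n hn => n.mul_mem_right b (mem_maximal a ha n hn)

/-- `B` is isomorphic to the maximal ideal of `A` -/
theorem Hyp.exists_equiv [Nontrivial B] (h : Hyp A B) : ∃ (t : B) (e : B ≃ₗ[A] maximalIdeal A),
    ∀ b, algebraMap A B (e b : A) = t * b := by
  obtain ⟨t, ht1, ht2⟩ := exists_generator h.loc (finite_maximal A B)
  have hmem : ∀ b : B, ∃ a ∈ maximalIdeal A, algebraMap A B a = t * b := fun b =>
    h.exists_of_mem _ ((ht2 _).2 ⟨b, rfl⟩)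
  choose f hf1 hf2 using hmem
  let e : B →ₗ[A] maximalIdeal A :=
    { toFun := fun b => ⟨f b, hf1 b⟩
      map_add' := fun b c => by
        apply Subtype.ext
        apply h.inj
        change algebraMap A B (f (b + c)) = algebraMap A B (f b + f c)
        rw [map_add, hf2, hf2, hf2, mul_add]
      map_smul' := fun r b => by
        apply Subtype.ext
        apply h.inj
        change algebraMap A B (f (r • b)) = algebraMap A B (r * f b)
        rw [map_mul, hf2, hf2, Algebra.smul_def]
        ring }
  have he : ∀ b, algebraMap A B (e b : A) = t * b := hf2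
  refine ⟨t, LinearEquiv.ofBijective e ⟨?_, ?_⟩, he⟩
  · rw [injective_iff_map_eq_zero]
    intro b hb
    apply ht1
    rw [← he b, hb]
    simp
  · rintro ⟨a, ha⟩
    obtain ⟨c, hc⟩ := (ht2 (algebraMap A B a)).1 (fun n hn => mem_maximal a ha n hn)
    refine ⟨c, Subtype.ext (h.inj ?_)⟩
    rw [he, hc]

/-- the inclusion `A / m → B / m B` and the quotient `B / A` -/
theorem Hyp.length_quotient [Nontrivial B] (h : Hyp A B)
    (hlen : Module.length A (maximalIdeal A ⧸
      (maximalIdeal A • (⊤ : Submodule A (maximalIdeal A)))) = 2) :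
    Module.length A (B ⧸ LinearMap.range (Algebra.linearMap A B)) = 1 := by
  obtain ⟨t, e, he⟩ := h.exists_equiv
  set I : Submodule A B := maximalIdeal A • ⊤ with hI
  set R : Submodule A B := LinearMap.range (Algebra.linearMap A B) with hR
  have h1 : Module.length A (B ⧸ I) = 2 := by
    rw [← hlen]
    refine LinearEquiv.length_eq (Submodule.Quotient.equiv _ _ e ?_)
    rw [hI, Submodule.map_smul'', Submodule.map_top, LinearEquiv.range]
  have hIm : ∀ x ∈ I, ∃ a ∈ maximalIdeal A, algebraMap A B a = x := by
    intro x hx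
    rw [hI] at hx
    refine Submodule.smul_induction_on hx ?_ ?_
    · intro a ha b _
      obtain ⟨a', ha', h'⟩ := h.conductor a ha b
      exact ⟨a', ha', by rw [h', Algebra.smul_def]⟩
    · rintro x y ⟨a, ha, rfl⟩ ⟨b, hb, rfl⟩
      exact ⟨a + b, Ideal.add_mem _ ha hb, map_add _ _ _⟩
  have hIR : I ≤ R := by
    intro x hx
    obtain ⟨a, -, rfl⟩ := hIm x hx
    exact ⟨a, rfl⟩
  let f : (A ⧸ maximalIdeal A) →ₗ[A] (B ⧸ I) :=
    Submodule.mapQ (maximalIdeal A) I (Algebra.linearMap A B) (by
      intro a ha
      change algebraMap A B a ∈ I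
      rw [Algebra.algebraMap_eq_smul_one]
      exact Submodule.smul_mem_smul ha trivial)
  let g : (B ⧸ I) →ₗ[A] (B ⧸ R) := Submodule.factor hIR
  have hf : Function.Injective f := by
    rw [injective_iff_map_eq_zero]
    intro x hx
    obtain ⟨a, rfl⟩ := Submodule.Quotient.mk_surjective _ x
    have hx' : algebraMap A B a ∈ I := (Submodule.Quotient.mk_eq_zero I).1 hx
    obtain ⟨a', ha', h'⟩ := hIm _ hx'
    rw [Submodule.Quotient.mk_eq_zero, ← h.inj h']
    exact ha'
  have hg : Function.Surjective g := Submodule.factor_surjective hIR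
  have hfg : Function.Exact f g := by
    intro x
    obtain ⟨b, rfl⟩ := Submodule.Quotient.mk_surjective _ x
    constructor
    · intro hx
      have hx' : b ∈ R := (Submodule.Quotient.mk_eq_zero R).1 hx
      obtain ⟨a, rfl⟩ := hx'
      exact ⟨Submodule.Quotient.mk a, rfl⟩
    · rintro ⟨y, hy⟩
      obtain ⟨a, rfl⟩ := Submodule.Quotient.mk_surjective _ y
      rw [← hy]
      change Submodule.Quotient.mk (p := R) (algebraMap A B a) = 0
      rw [Submodule.Quotient.mk_eq_zero]
      exact ⟨a, rfl⟩
  have h2 := Module.length_eq_add_of_exact f g hf hg hfg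
  have h3 : Module.length A (A ⧸ maximalIdeal A) = 1 := by
    rw [Module.length_eq_one_iff, isSimpleModule_iff_isCoatom]
    exact (maximalIdeal.isMaximal A).out
  rw [h1, h3] at h2
  have h4 : (1 : ℕ∞) + 1 = 1 + Module.length A (B ⧸ R) := by
    rw [← h2]; norm_num
  exact ((ENat.addLECancellable_of_ne_top (by simp : (1 : ℕ∞) ≠ ⊤)).inj.1 h4).symm

end Node

end K977.NodeAlg
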