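import Groth.Agent.CurvesB.NodeLike
import Mathlib.Algebra.Module.SpanRankOperations
import Mathlib.RingTheory.Ideal.Cotangent
import Mathlib.RingTheory.Length

/-!
# The cotangent space at a node has length two
-/

set_option autoImplicit false
set_option linter.style.haveILetI false
universe u

open IsLocalRing

namespace K977.NodeLen

open Groth.Agent.CurvesB.Node

theorem finrank_eq_two {A : Type u} [CommRing A] [IsLocalRing A] [IsNoetherianRing A]
    (h : NodeLike A) : Module.finrank (ResidueField A) (CotangentSpace A) = 2 := by
  obtain ⟨a, b, α, β, γ, hm, -, -⟩ := h.exists_gens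
  have h1 : ¬ Module.finrank (ResidueField A) (CotangentSpace A) ≤ 1 := by
    rw [finrank_cotangentSpace_le_one_iff]
    have := h.not_principal 1 le_rfl
    rwa [pow_one] at this
  have h2 : Module.finrank (ResidueField A) (CotangentSpace A) ≤ 2 := by
    rw [← spanFinrank_maximalIdeal_eq_finrank_cotangentSpace, hm]
    refine (Submodule.spanFinrank_span_le_ncard_of_finite (by simp)).trans ?_
    exact Set.ncard_insert_le a {b} |>.trans (by simp)
  omega

theorem length_eq_two {A : Type u} [CommRing A] [IsLocalRing A] [IsNoetherianRing A]
    (h : NodeLike A) : Module.length A (maximalIdeal A ⧸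
      (maximalIdeal A • (⊤ : Submodule A (maximalIdeal A)))) = 2 := by
  change Module.length A (CotangentSpace A) = 2
  rw [Module.length_eq_of_surjective (R := ResidueField A) (S := A) (M := CotangentSpace A)
    residue_surjective, Module.length_eq_finrank, finrank_eq_two h]
  rfl

theorem not_isField {A : Type u} [CommRing A] [IsLocalRing A] (h : NodeLike A) : ¬ IsField A := by
  intro hf
  apply h.not_principal 1 le_rfl
  rw [pow_one, isField_iff_maximalIdeal_eq.1 hf]
  infer_instance

end K977.NodeLen
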