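import Groth.Agent.TFNodal.K977.Generic
import Groth.Agent.Krr.H478.EpiIso
import Groth.Agent.Fdesc.PullbackStalk
import Mathlib.LinearAlgebra.TensorProduct.Pi
import Mathlib.RingTheory.Finiteness.Basic

/-!
# Pullback and epimorphisms onto locally free modules

* `exists_equiv_pullback`: stalk of the pullback at `y` of a module with free stalk at `π y`;
* `injective_of_surjective`: surjective maps between modules isomorphic to `R^r` are injective;
* `isTorsionFree_of_rank`: finite locally free modules are torsion free;
* `kernel_comp_eq_zero`: a morphism to a torsion free module killing the kernel of `p` generically.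
-/

set_option autoImplicit false
set_option linter.style.haveILetI false
universe u v
open CategoryTheory CategoryTheory.Limits AlgebraicGeometry TopologicalSpace
open scoped TensorProduct

namespace K977.TFNorm

open Groth.Agent Groth.Agent.CycB.StalkExact

theorem injective_of_surjective {R : Type u} [CommRing R] {M N : Type v} [AddCommGroup M]
    [Module R M] [AddCommGroup N] [Module R N] {r : ℕ} (e : M ≃ₗ[R] (Fin r → R))
    (e' : N ≃ₗ[R] (Fin r → R)) (f : M →ₗ[R] N) (hf : Function.Surjective f) :
    Function.Injective f := by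
  haveI : Module.Finite R M := Module.Finite.equiv e.symm
  have h1 : Function.Surjective ((e'.trans e.symm).toLinearMap ∘ₗ f) :=
    (e'.trans e.symm).surjective.comp hf
  have h2 := OrzechProperty.injective_of_surjective_endomorphism _ h1
  intro a b hab
  exact h2 (congrArg (e'.trans e.symm) hab)

variable {X Y : Scheme.{u}}

theorem exists_equiv_pullback (π : Y ⟶ X) (F : X.Modules) (y : Y) {r : ℕ}
    (h : Nonempty (F.presheaf.stalk (π y) ≃ₗ[X.presheaf.stalk (π y)]
      (Fin r → X.presheaf.stalk (π y)))) :
    Nonempty (((Scheme.Modules.pullback π).obj F).presheaf.stalk y ≃ₗ[Y.presheaf.stalk y]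
      (Fin r → Y.presheaf.stalk y)) := by
  obtain ⟨e⟩ := h
  letI := Fdesc.PullbackStalk.stalkAlg π y
  let e1 := (Fdesc.PullbackStalk.stalkPullbackEquiv π F y).symm
  let e2 : (Y.presheaf.stalk y ⊗[X.presheaf.stalk (π y)] F.presheaf.stalk (π y))
      ≃ₗ[Y.presheaf.stalk y] (Y.presheaf.stalk y ⊗[X.presheaf.stalk (π y)]
        (Fin r → X.presheaf.stalk (π y))) :=
    TensorProduct.AlgebraTensorModule.congr (LinearEquiv.refl _ _) e
  exact ⟨e1.trans (e2.trans (TensorProduct.piScalarRight _ _ _ _))⟩

theorem exists_equiv_of_rank {n : ℕ} {M : X.Modules} (hM : FlatMod.IsFinLocFreeOfRank n M) (x : X) :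
    Nonempty (M.presheaf.stalk x ≃ₗ[X.presheaf.stalk x] (Fin n → X.presheaf.stalk x)) := by
  obtain ⟨b⟩ := Krr.H478.EpiIso.exists_basis hM x
  exact ⟨b.equivFun⟩

theorem isTorsionFree_of_equiv {R : Type u} [CommRing R] {M : Type v} [AddCommGroup M]
    [Module R M] {r : ℕ} (e : M ≃ₗ[R] (Fin r → R)) : Module.IsTorsionFree R M where
  isSMulRegular a ha m m' h := by
    apply e.injective
    have h1 : a • e m = a • e m' := by
      rw [← map_smul, ← map_smul]
      exact congrArg e h
    funext i
    exact ha.1 (congrFun h1 i)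

theorem isTorsionFree_of_rank {n : ℕ} {M : X.Modules} (hM : FlatMod.IsFinLocFreeOfRank n M) :
    TorSh.IsTorsionFree M := fun x => by
  obtain ⟨e⟩ := exists_equiv_of_rank hM x
  exact isTorsionFree_of_equiv e

/-- The stalk of an epimorphism `p : π^* F → E` onto a locally free module of rank `r`, at points
over which `F` is free of rank `r`, is injective. -/
theorem stalkLin_injective_of_epi (π : Y ⟶ X) (F : X.Modules) (E : Y.Modules) {r : ℕ}
    (hE : FlatMod.IsFinLocFreeOfRank r E) (p : (Scheme.Modules.pullback π).obj F ⟶ E) [Epi p]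
    (y : Y) (h : Nonempty (F.presheaf.stalk (π y) ≃ₗ[X.presheaf.stalk (π y)]
      (Fin r → X.presheaf.stalk (π y)))) : Function.Injective (stalkLin p y) := by
  obtain ⟨e⟩ := exists_equiv_pullback π F y h
  obtain ⟨e'⟩ := exists_equiv_of_rank hE y
  exact injective_of_surjective e e' _ (stalkLin_surjective p y)

theorem stalkLin_zero {M N : X.Modules} (x : X) (m : M.presheaf.stalk x) :
    stalkLin (0 : M ⟶ N) x m = 0 := by
  obtain ⟨W, hW, m, rfl⟩ := M.presheaf.exists_germ_eq m
  rw [stalkLin_germ]
  exact map_zero _

/-- A morphism `φ` to a torsion free module over a reduced scheme factors through an epimorphism `p`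
which is injective on stalks at the points of a dense open subset. -/
theorem exists_factor [IsLocallyNoetherian Y] [AlgebraicGeometry.IsReduced Y]
    {M E E' : Y.Modules} (p : M ⟶ E) [Epi p] (φ : M ⟶ E') (hE' : Coh.IsQCoh E')
    (htE' : TorSh.IsTorsionFree E') (V : Y.Opens) (hV : Dense (V : Set Y))
    (hp : ∀ y ∈ V, Function.Injective (stalkLin p y)) : ∃ lam : E ⟶ E', p ≫ lam = φ := by
  have h0 : kernel.ι p ≫ φ = 0 := by
    apply Scheme.Modules.hom_ext
    intro W
    ext s
    apply K977.TFGeneric.eq_zero_section_of_generic E' hE' htE'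
    intro ξ hξ hfield
    rw [← stalkLin_germ, stalkLin_comp, LinearMap.comp_apply]
    have h1 : stalkLin (kernel.ι p) ξ ((kernel p).presheaf.germ W ξ hξ s) = 0 := by
      apply hp ξ (K977.TFGeneric.mem_of_dense V hV ξ hfield)
      rw [map_zero, ← LinearMap.comp_apply, ← stalkLin_comp, kernel.condition]
      exact stalkLin_zero ξ _
    rw [h1, map_zero]
  exact ⟨Abelian.epiDesc p φ h0, Abelian.comp_epiDesc p φ h0⟩

end K977.TFNorm
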