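import Groth.Agent.TFNodal.K977.NodeAlg
import Mathlib.LinearAlgebra.TensorProduct.RightExactness
import Mathlib.LinearAlgebra.TensorProduct.Pi
import Mathlib.LinearAlgebra.TensorProduct.Prod
import Mathlib.LinearAlgebra.TensorProduct.Quotient

/-!
# Modules of type `a` over the local ring of a node

`A` the local ring of a node with normalization `B` (`NodeAlg.Hyp`), `N ≃ A^a × m^c`.
-/

set_option autoImplicit false
set_option linter.style.haveILetI false
set_option linter.unusedSectionVars false
universe u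

open IsLocalRing
open scoped TensorProduct

namespace K977.TypeAlg

open K977.NodeAlg

theorem Hyp.eq_zero_of_smul {A B : Type u} [CommRing A] [IsLocalRing A] [CommRing B] [Algebra A B]
    [Module.Finite A B] [Nontrivial B] (h : Hyp A B) (b : B)
    (hb : ∀ s ∈ maximalIdeal A, s • b = 0) : b = 0 := by
  obtain ⟨t, ht1, ht2⟩ := exists_generator h.loc (finite_maximal A B)
  obtain ⟨a, ha, hat⟩ := h.exists_of_mem t ((ht2 t).2 ⟨1, by rw [mul_one]⟩)
  apply ht1
  rw [← hat, ← Algebra.smul_def]
  exact hb a ha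

section

variable {A B : Type u} [CommRing A] [IsLocalRing A] [CommRing B] [Algebra A B] [Module.Finite A B]
  [Nontrivial B] (h : Hyp A B) {N : Type u} [AddCommGroup N] [Module A N]

include h in
theorem exists_smul_eq (s : A) (hs : s ∈ maximalIdeal A) (z : B ⊗[A] N) :
    ∃ n : N, s • z = 1 ⊗ₜ n := by
  induction z with
  | zero => exact ⟨0, by simp⟩
  | add z w hz hw =>
    obtain ⟨n, hn⟩ := hz
    obtain ⟨m, hm⟩ := hw
    exact ⟨n + m, by rw [smul_add, hn, hm, TensorProduct.tmul_add]⟩
  | tmul b n =>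
    obtain ⟨a', -, ha'⟩ := h.conductor s hs b
    refine ⟨a' • n, ?_⟩
    rw [TensorProduct.smul_tmul', Algebra.smul_def, ← ha', Algebra.algebraMap_eq_smul_one,
      TensorProduct.smul_tmul]

variable (A B N) in
/-- the submodule of elements killed by the maximal ideal -/
def K : Submodule A (B ⊗[A] N) where
  carrier := {z | ∀ s ∈ maximalIdeal A, s • z = 0}
  add_mem' := fun {z w} hz hw s hs => by rw [smul_add, hz s hs, hw s hs, add_zero]
  zero_mem' := fun s _ => smul_zero s
  smul_mem' := fun a z hz s hs => by rw [smul_comm, hz s hs, smul_zero]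

omit [Module.Finite A B] [Nontrivial B] in
theorem mem_K (z : B ⊗[A] N) : z ∈ K A B N ↔ ∀ s ∈ maximalIdeal A, s • z = 0 := Iff.rfl

/-- the map `N → B ⊗ N` -/
def inc (A B : Type u) [CommRing A] [CommRing B] [Algebra A B] (N : Type u) [AddCommGroup N]
    [Module A N] : N →ₗ[A] B ⊗[A] N := TensorProduct.mk A B N 1

omit [IsLocalRing A] [Module.Finite A B] [Nontrivial B] in
theorem inc_apply (n : N) : inc A B N n = 1 ⊗ₜ n := rfl

include h in
/-- kernel of a surjection onto a torsion free module -/
theorem ker_eq {E : Type u} [AddCommGroup E] [Module A E] (ψ : B ⊗[A] N →ₗ[A] E)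
    (hβ : ∀ n, ψ (1 ⊗ₜ n) = 0 → n = 0) (hE : ∀ e : E, (∀ s ∈ maximalIdeal A, s • e = 0) → e = 0) :
    LinearMap.ker ψ = K A B N := by
  ext z
  rw [LinearMap.mem_ker, mem_K]
  constructor
  · intro hz s hs
    obtain ⟨n, hn⟩ := exists_smul_eq h s hs z
    have h1 : ψ (1 ⊗ₜ n) = 0 := by rw [← hn, map_smul, hz, smul_zero]
    rw [hn, hβ n h1, TensorProduct.tmul_zero]
  · intro hz
    apply hE
    intro s hs
    rw [← map_smul, hz s hs, map_zero]

/-- `b ⊗ n ↦ l(n) b` -/
noncomputable def th (B : Type u) [CommRing B] [Algebra A B] (l : N →ₗ[A] A) : B ⊗[A] N →ₗ[A] B :=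
  (TensorProduct.rid A B).toLinearMap ∘ₗ (LinearMap.lTensor B l)

omit [IsLocalRing A] [Module.Finite A B] [Nontrivial B] in
theorem th_tmul (l : N →ₗ[A] A) (b : B) (n : N) : th B l (b ⊗ₜ n) = l n • b := by
  simp [th]

omit [IsLocalRing A] [Module.Finite A B] [Nontrivial B] in
theorem th_inc (l : N →ₗ[A] A) (n : N) : th B l (inc A B N n) = algebraMap A B (l n) := by
  rw [inc_apply, th_tmul, Algebra.algebraMap_eq_smul_one]

variable {a c : ℕ} (φ : N ≃ₗ[A] (Fin a → A) × (Fin c → maximalIdeal A))

/-- first coordinates -/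
def la (i : Fin a) : N →ₗ[A] A := LinearMap.proj i ∘ₗ LinearMap.fst A _ _ ∘ₗ φ.toLinearMap

/-- second coordinates -/
def mu (j : Fin c) : N →ₗ[A] A := (maximalIdeal A).subtype ∘ₗ LinearMap.proj j ∘ₗ
  LinearMap.snd A _ _ ∘ₗ φ.toLinearMap

theorem la_apply (i : Fin a) (n : N) : la φ i n = (φ n).1 i := rfl

theorem mu_apply (j : Fin c) (n : N) : mu φ j n = ((φ n).2 j : A) := rfl

theorem eq_zero_of_coord (n : N) (h1 : ∀ i, la φ i n = 0) (h2 : ∀ j, mu φ j n = 0) : n = 0 := by
  apply φ.injective
  rw [map_zero]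
  apply Prod.ext
  · funext i
    exact h1 i
  · funext j
    exact Subtype.ext (h2 j)

include h

include φ in
/-- `N → B ⊗ N` is injective -/
theorem inc_injective : Function.Injective (inc A B N) := by
  rw [injective_iff_map_eq_zero]
  intro n hn
  apply eq_zero_of_coord φ
  · intro i
    apply h.inj
    rw [← th_inc, hn, map_zero, map_zero]
  · intro j
    apply h.inj
    rw [← th_inc, hn, map_zero, map_zero]

theorem mem_K_iff (z : B ⊗[A] N) :
    z ∈ K A B N ↔ (∀ i, th B (la φ i) z = 0) ∧ ∀ j, th B (mu φ j) z = 0 := by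
  constructor
  · intro hz
    refine ⟨fun i => ?_, fun j => ?_⟩
    · apply Hyp.eq_zero_of_smul h
      intro s hs
      rw [← map_smul, hz s hs, map_zero]
    · apply Hyp.eq_zero_of_smul h
      intro s hs
      rw [← map_smul, hz s hs, map_zero]
  · rintro ⟨h1, h2⟩ s hs
    obtain ⟨n, hn⟩ := exists_smul_eq h s hs z
    have : n = 0 := by
      apply eq_zero_of_coord φ
      · intro i
        apply h.inj
        rw [← th_inc, inc_apply, ← hn, map_smul, h1, smul_zero, map_zero]
      · intro j
        apply h.inj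
        rw [← th_inc, inc_apply, ← hn, map_smul, h2, smul_zero, map_zero]
    rw [hn, this, TensorProduct.tmul_zero]

theorem exists_mu (j : Fin c) (z : B ⊗[A] N) :
    ∃ s ∈ maximalIdeal A, algebraMap A B s = th B (mu φ j) z := by
  induction z with
  | zero => exact ⟨0, Ideal.zero_mem _, by simp⟩
  | add z w hz hw =>
    obtain ⟨s, hs, h1⟩ := hz
    obtain ⟨t, ht, h2⟩ := hw
    exact ⟨s + t, Ideal.add_mem _ hs ht, by rw [map_add, map_add, h1, h2]⟩
  | tmul b n =>
    rw [th_tmul, Algebra.smul_def]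
    exact h.conductor _ ((φ n).2 j).2 b

omit h in
/-- the map to `(B / A)^a` -/
noncomputable def Th (B : Type u) [CommRing B] [Algebra A B] : B ⊗[A] N →ₗ[A]
    (Fin a → B ⧸ LinearMap.range (Algebra.linearMap A B)) :=
  LinearMap.pi fun i => (LinearMap.range (Algebra.linearMap A B)).mkQ ∘ₗ th B (la φ i)

omit h [Module.Finite A B] [Nontrivial B] in
theorem Th_surjective : Function.Surjective (Th φ B) := by
  intro y
  choose b hb using fun i => Submodule.Quotient.mk_surjective _ (y i)
  classical
  refine ⟨∑ i, b i ⊗ₜ φ.symm (Pi.single i 1, 0), ?_⟩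
  funext i
  have h1 : th B (la φ i) (∑ i, b i ⊗ₜ φ.symm (Pi.single i 1, 0)) = b i := by
    rw [map_sum, Finset.sum_eq_single i]
    · rw [th_tmul, la_apply, LinearEquiv.apply_symm_apply]
      simp
    · intro j _ hji
      rw [th_tmul, la_apply, LinearEquiv.apply_symm_apply]
      simp [Ne.symm hji]
    · intro hi
      exact absurd (Finset.mem_univ i) hi
  change Submodule.Quotient.mk (th B (la φ i) _) = _
  rw [h1, hb]

theorem ker_Th : LinearMap.ker (Th φ B) = LinearMap.range (inc A B N) ⊔ K A B N := by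
  apply le_antisymm
  · intro z hz
    have h1 : ∀ i, ∃ s : A, algebraMap A B s = th B (la φ i) z := by
      intro i
      have := congrFun (LinearMap.mem_ker.1 hz) i
      have h2 : th B (la φ i) z ∈ LinearMap.range (Algebra.linearMap A B) :=
        (Submodule.Quotient.mk_eq_zero _).1 this
      obtain ⟨s, hs⟩ := h2
      exact ⟨s, hs⟩
    choose s hs using h1
    choose t ht htz using fun j => exists_mu h φ j z
    let n : N := φ.symm (s, fun j => ⟨t j, ht j⟩)
    have h3 : z - inc A B N n ∈ K A B N := by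
      rw [mem_K_iff h φ]
      refine ⟨fun i => ?_, fun j => ?_⟩
      · rw [map_sub, th_inc, la_apply, LinearEquiv.apply_symm_apply, hs, sub_self]
      · rw [map_sub, th_inc, mu_apply, LinearEquiv.apply_symm_apply, htz, sub_self]
    have h4 : z = inc A B N n + (z - inc A B N n) := by abel
    rw [h4]
    exact Submodule.add_mem_sup ⟨n, rfl⟩ h3
  · rw [sup_le_iff]
    constructor
    · rintro _ ⟨n, rfl⟩
      rw [LinearMap.mem_ker]
      funext i
      change Submodule.Quotient.mk (th B (la φ i) _) = _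
      rw [th_inc]
      exact (Submodule.Quotient.mk_eq_zero _).2 ⟨_, rfl⟩
    · intro z hz
      rw [LinearMap.mem_ker]
      funext i
      change Submodule.Quotient.mk (th B (la φ i) _) = _
      rw [((mem_K_iff h φ z).1 hz).1 i]
      rfl

include φ in
/-- **The cokernel of `β`.** -/
theorem length_coker_beta {E : Type u} [AddCommGroup E] [Module A E] (ψ : B ⊗[A] N →ₗ[A] E)
    (hψ : Function.Surjective ψ) (β : N →ₗ[A] E) (hψβ : ∀ n, ψ (1 ⊗ₜ n) = β n)
    (hβ : Function.Injective β) (hE : ∀ e : E, (∀ s ∈ maximalIdeal A, s • e = 0) → e = 0)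
    (hlen : Module.length A (B ⧸ LinearMap.range (Algebra.linearMap A B)) = 1) :
    Module.length A (E ⧸ LinearMap.range β) = a := by
  have hker := ker_eq h ψ (fun n hn => by
    rw [hψβ] at hn
    exact hβ (hn.trans (map_zero β).symm)) hE
  let Q : B ⊗[A] N →ₗ[A] (E ⧸ LinearMap.range β) := (LinearMap.range β).mkQ ∘ₗ ψ
  have hQ : Function.Surjective Q := (Submodule.mkQ_surjective _).comp hψ
  have hkQ : LinearMap.ker Q = LinearMap.range (inc A B N) ⊔ K A B N := by
    rw [← hker]
    ext z
    rw [LinearMap.mem_ker]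
    change Submodule.Quotient.mk (ψ z) = 0 ↔ _
    rw [Submodule.Quotient.mk_eq_zero]
    constructor
    · rintro ⟨n, hn⟩
      have h1 : z = inc A B N n + (z - inc A B N n) := by abel
      rw [h1]
      refine Submodule.add_mem_sup ⟨n, rfl⟩ ?_
      rw [LinearMap.mem_ker, map_sub, inc_apply, hψβ, hn, sub_self]
    · intro hz
      obtain ⟨_, ⟨n, rfl⟩, w, hw, rfl⟩ := Submodule.mem_sup.1 hz
      refine ⟨n, ?_⟩
      rw [map_add, LinearMap.mem_ker.1 hw, add_zero, inc_apply, hψβ]
  have e1 := LinearMap.quotKerEquivOfSurjective Q hQ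
  have e2 := LinearMap.quotKerEquivOfSurjective (Th φ B) (Th_surjective φ)
  have e3 := Submodule.quotEquivOfEq _ _ (hkQ.trans (ker_Th h φ).symm)
  rw [(e1.symm.trans (e3.trans e2)).length_eq, Module.length_pi]
  simp [hlen]

omit h [Module.Finite A B] [Nontrivial B] [Algebra A B] in
include φ in
theorem length_quot_smul
    (hlm : Module.length A (maximalIdeal A ⧸
      (maximalIdeal A • (⊤ : Submodule A (maximalIdeal A)))) = 2) :
    Module.length A ((A ⧸ maximalIdeal A) ⊗[A] N) = a + 2 * c := by
  have h1 : Module.length A (A ⧸ maximalIdeal A) = 1 := by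
    rw [Module.length_eq_one_iff, isSimpleModule_iff_isCoatom]
    exact (maximalIdeal.isMaximal A).out
  have h2 : Module.length A ((A ⧸ maximalIdeal A) ⊗[A] maximalIdeal A) = 2 := by
    rw [← hlm]
    exact (TensorProduct.quotTensorEquivQuotSMul _ _).length_eq
  let e1 : (A ⧸ maximalIdeal A) ⊗[A] N ≃ₗ[A]
      (A ⧸ maximalIdeal A) ⊗[A] ((Fin a → A) × (Fin c → maximalIdeal A)) :=
    TensorProduct.congr (LinearEquiv.refl A _) φ
  let e2 := TensorProduct.prodRight A A (A ⧸ maximalIdeal A) (Fin a → A) (Fin c → maximalIdeal A)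
  let e3 := TensorProduct.piScalarRight A A (A ⧸ maximalIdeal A) (Fin a)
  let e4 := TensorProduct.piRight A A (A ⧸ maximalIdeal A) (fun _ : Fin c => maximalIdeal A)
  rw [e1.length_eq, e2.length_eq, Module.length_prod, e3.length_eq, e4.length_eq,
    Module.length_pi, Module.length_pi]
  simp [h1, h2, mul_comm]

include φ in
/-- **The cokernel of `N → B ⊗ N`.** -/
theorem length_coker_inc
    (hlen : Module.length A (B ⧸ LinearMap.range (Algebra.linearMap A B)) = 1)
    (hlm : Module.length A (maximalIdeal A ⧸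
      (maximalIdeal A • (⊤ : Submodule A (maximalIdeal A)))) = 2) :
    Module.length A ((B ⊗[A] N) ⧸ LinearMap.range (inc A B N)) = a + 2 * c := by
  rw [← length_quot_smul φ hlm]
  haveI hs : IsSimpleModule A (B ⧸ LinearMap.range (Algebra.linearMap A B)) :=
    Module.length_eq_one_iff.1 hlen
  obtain ⟨I, hI, ⟨e⟩⟩ := isSimpleModule_iff_quot_maximal.1 hs
  have hIm : I = maximalIdeal A := IsLocalRing.eq_maximalIdeal hI
  subst hIm
  have hex : Function.Exact (Algebra.linearMap A B)
      (LinearMap.range (Algebra.linearMap A B)).mkQ := by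
    intro x
    rw [Submodule.mkQ_apply, Submodule.Quotient.mk_eq_zero]
    rfl
  have h1 := rTensor_exact N hex (Submodule.mkQ_surjective _)
  have h2 : Function.Surjective (LinearMap.rTensor N
      (LinearMap.range (Algebra.linearMap A B)).mkQ) :=
    LinearMap.rTensor_surjective N (Submodule.mkQ_surjective _)
  have h3 : LinearMap.range (inc A B N) =
      LinearMap.ker (LinearMap.rTensor N (LinearMap.range (Algebra.linearMap A B)).mkQ) := by
    rw [LinearMap.exact_iff.1 h1]
    ext z
    constructor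
    · rintro ⟨n, rfl⟩
      exact ⟨1 ⊗ₜ n, by simp [inc_apply]⟩
    · rintro ⟨w, rfl⟩
      obtain ⟨n, rfl⟩ := (TensorProduct.lid A N).symm.surjective w
      exact ⟨n, by simp [inc_apply]⟩
  let e1 := Submodule.quotEquivOfEq _ _ h3
  let e2 := LinearMap.quotKerEquivOfSurjective _ h2
  let e3 : (B ⧸ LinearMap.range (Algebra.linearMap A B)) ⊗[A] N ≃ₗ[A]
      (A ⧸ maximalIdeal A) ⊗[A] N := TensorProduct.congr e (LinearEquiv.refl A N)
  exact (e1.trans (e2.trans e3)).length_eq

end

end K977.TypeAlg
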