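import Groth.Agent.TFNodal.K977.NodeBlock
import Groth.Agent.TFNodal.K977.NodeLen
import Groth.Agent.TFNodal.K977.TypeAlg
import Groth.Agent.TFNodal.K977.Norm
import Groth.Agent.Models.H58.NodalGlueGeo
import Groth.Agent.CurvesB.NodeCriterion
import Groth.Agent.CurvesB.NodeSch2
import Groth.Agent.Sga7.H598.SNNode
import Groth.Agent.Etcore.SmoothRed

/-!
# The normalization of a nodal curve at a node
-/

set_option autoImplicit false
set_option linter.style.haveILetI false
universe u
open CategoryTheory CategoryTheory.Limits AlgebraicGeometry TopologicalSpace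
open scoped TensorProduct

namespace K977.NodeNorm

open Groth.Agent Groth.Agent.CycB.StalkExact Groth.Agent.VarietyB.PullSec
open Groth.Agent.Sga7.H598.SNDef K977.NodeAlg

section Node

variable (k : Type u) [Field k] (X : Scheme.{u}) [X.Over (Spec (CommRingCat.of k))]
  [LocallyOfFiniteType (X ↘ Spec (CommRingCat.of k))]

theorem nodeLike {x : X} (hx : Curv2.IsNode k X x) :
    CurvesB.Node.NodeLike (X.presheaf.stalk x) :=
  ((CurvesB.Node.isNode_iff k X x).1 hx).2

theorem isReduced (hnod : Curv2.AtWorstNodal k X) : AlgebraicGeometry.IsReduced X := by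
  have h := CurvesB.NodeSch2.geometricallyReduced_of_atWorstNodal k hnod
  have hN : IsLocallyNoetherian X :=
    LocallyOfFiniteType.isLocallyNoetherian (X ↘ Spec (CommRingCat.of k))
  exact GeometricallyReduced.isReduced_of_flat_of_isLocallyNoetherian
    (X ↘ Spec (CommRingCat.of k))

theorem not_isField {x : X} (hx : Curv2.IsNode k X x) : ¬ IsField (X.presheaf.stalk x) :=
  NodeLen.not_isField (nodeLike k X hx)

end Node

section Norm

variable (k : Type u) [Field k] [IsAlgClosed k]
    (X : Scheme.{u}) [X.Over (Spec (CommRingCat.of k))]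
    [LocallyOfFiniteType (X ↘ Spec (CommRingCat.of k))]
    [QuasiCompact (X ↘ Spec (CommRingCat.of k))]
    (hdim : topologicalKrullDim X ≤ 1) (hnod : Curv2.AtWorstNodal k X)
    (Y : Scheme.{u}) (π : Y ⟶ X) [AlgebraicGeometry.IsFinite π]
    [Smooth (π ≫ (X ↘ Spec (CommRingCat.of k)))]
    (U : X.Opens) (hU : ∀ x : X, x ∈ U ↔ ¬ Curv2.IsNode k X x) (hUiso : IsIso (π ∣_ U))
    (hUd : Dense ((π ⁻¹ᵁ U : Y.Opens) : Set Y))

include hdim hnod hU hUiso hUd

/-- The semilocal ring of the normalization at a node. -/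
theorem exists_node_block (x : X) (hx : Curv2.IsNode k X x) :
    ∃ (B : Type u) (_ : CommRing B) (_ : Algebra (X.presheaf.stalk x) B)
      (_ : Module.Finite (X.presheaf.stalk x) B) (_ : Nontrivial B), Hyp (X.presheaf.stalk x) B ∧
      Module.length (X.presheaf.stalk x)
        (B ⧸ LinearMap.range (Algebra.linearMap (X.presheaf.stalk x) B)) = 1 ∧
      ∀ (F : X.Modules), Coh.IsQCoh F → ∃ e : B ⊗[X.presheaf.stalk x] (F.presheaf.stalk x)
        ≃ₗ[X.presheaf.stalk x] (((Scheme.Modules.pushforward π).obj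
          ((Scheme.Modules.pullback π).obj F)).presheaf.stalk x),
        ∀ n, e (1 ⊗ₜ n) =
          stalkLin ((Scheme.Modules.pullbackPushforwardAdjunction π).unit.app F) x n := by
  have hNX : IsLocallyNoetherian X :=
    LocallyOfFiniteType.isLocallyNoetherian (X ↘ Spec (CommRingCat.of k))
  have hR := isReduced k X hnod
  have hU' : ∀ ξ : X, IsField (X.presheaf.stalk ξ) → ξ ∈ U := fun ξ hξ => by
    rw [hU]
    exact fun h => not_isField k X h hξ
  have hsp : ∀ ξ : X, ξ ⤳ x → ξ ≠ x → ξ ∈ U := fun ξ hξ hne => by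
    rw [hU]
    intro h
    apply hne
    exact (h.1.closure_eq ▸ hξ.mem_closure : x ∈ ({ξ} : Set X)).symm
  have hdvr : ∀ y : Y, π y = x → ∃ _ : IsDomain (Y.presheaf.stalk y),
      IsDiscreteValuationRing (Y.presheaf.stalk y) := by
    intro y hy
    refine Models.H58.NodalGlueGeo.dvr_stalk (X ↘ Spec (CommRingCat.of k)) π hdim U hUd y ?_
    intro hyU
    have : π y ∈ U := hyU
    rw [hy, hU] at this
    exact this hx
  obtain ⟨B, i1, i2, i3, i4, hH, hF⟩ := NodeBlock.exists_block π U hUiso hU' x hsp hdvr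
    (Sga7.H598.SNNode.sn_of_isNode k X x hx)
  exact ⟨B, i1, i2, i3, i4, hH,
    hH.length_quotient (NodeLen.length_eq_two (nodeLike k X hx)), hF⟩

end Norm

end K977.NodeNorm
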