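import Groth.Agent.CycB.CohStalk
import Groth.Agent.CycB.StalkExact
import Groth.Agent.CycB.StalkLoc
import Mathlib.RingTheory.KrullDimension.Zero
import Groth.Prelude.Def_CurvBase
import Groth.Prelude.Def_TorSh
import Mathlib.RingTheory.Ideal.MinimalPrime.Noetherian
import Mathlib.RingTheory.Ideal.MinimalPrime.Localization
import Mathlib.Algebra.Module.Torsion.Free

/-!
# Torsion-free coherent modules on reduced schemes and generic points

* `exists_regular_of_forall_minimal`: in a reduced noetherian ring an ideal contained in no minimal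
  prime contains a regular element;
* `eq_zero_of_minimal`: in a torsion free module an element dying at all minimal primes is zero;
* `isField_ptOf`: the local ring at the point attached to a minimal prime of `O_{X,x}` is a field;
* `eq_zero_of_generic`: an element of the stalk `F_x` of a torsion free quasi-coherent module which
  vanishes in `F_ξ` for all generic points `ξ ⤳ x` is zero;
* `eq_zero_section_of_generic`: the version for sections.
-/

set_option autoImplicit false
set_option linter.style.haveILetI false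
universe u v
open CategoryTheory CategoryTheory.Limits AlgebraicGeometry TopologicalSpace

namespace K977.TFGeneric

open Groth.Agent

theorem exists_regular_of_forall_minimal {R : Type u} [CommRing R] [_root_.IsReduced R]
    [IsNoetherianRing R] (I : Ideal R) (h : ∀ p ∈ minimalPrimes R, ¬ I ≤ p) :
    ∃ r ∈ I, IsRegular r := by
  have hfin : (minimalPrimes R).Finite := minimalPrimes.finite_of_isNoetherianRing R
  by_contra hcon
  push Not at hcon
  have hsub : (I : Set R) ⊆ ⋃ p ∈ minimalPrimes R, (p : Set R) := by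
    intro r hr
    have hr' := hcon r hr
    have h1 : ∃ s : R, s ≠ 0 ∧ r * s = 0 := by
      by_contra hc
      push Not at hc
      apply hr'
      rw [isRegular_iff_mem_nonZeroDivisors, mem_nonZeroDivisors_iff_right]
      intro s hs
      by_contra hs0
      exact hc s hs0 (by rw [mul_comm]; exact hs)
    obtain ⟨s, hs0, hrs⟩ := h1
    have h2 : ∃ p ∈ minimalPrimes R, s ∉ p := by
      by_contra hc
      push Not at hc
      apply hs0
      have : s ∈ sInf (minimalPrimes R) := by
        rw [Ideal.mem_sInf]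
        intro p hp
        exact hc p hp
      have h3 : sInf (minimalPrimes R) = (⊥ : Ideal R).radical := Ideal.sInf_minimalPrimes
      rw [h3] at this
      obtain ⟨n, hn⟩ := this
      exact eq_zero_of_pow_eq_zero ((Submodule.mem_bot R).1 hn)
    obtain ⟨p, hp, hsp⟩ := h2
    refine Set.mem_biUnion hp ?_
    have := hp.isPrime
    exact (this.mem_or_mem (show r * s ∈ p by rw [hrs]; exact p.zero_mem)).resolve_right hsp
  have := (Ideal.subset_union_prime_finite (f := id) hfin ⊥ ⊥
    (fun p hp _ _ => hp.isPrime)).1 hsub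
  obtain ⟨p, hp, hIp⟩ := this
  exact h p hp hIp

theorem eq_zero_of_minimal {R : Type u} [CommRing R] [_root_.IsReduced R] [IsNoetherianRing R]
    {M : Type v} [AddCommGroup M] [Module R M] [Module.IsTorsionFree R M] (m : M)
    (h : ∀ p ∈ minimalPrimes R, ∃ a ∉ p, a • m = 0) : m = 0 := by
  obtain ⟨r, hr, hreg⟩ := exists_regular_of_forall_minimal
    (LinearMap.ker (LinearMap.toSpanSingleton R M m)) (by
      intro p hp hle
      obtain ⟨a, ha, ham⟩ := h p hp
      exact ha (hle (by simpa using ham)))
  have : r • m = r • (0 : M) := by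
    rw [smul_zero]
    simpa using hr
  exact Module.IsTorsionFree.isSMulRegular hreg this

variable {X : Scheme.{u}}

theorem isField_of_minimal [AlgebraicGeometry.IsReduced X] {x ξ : X} (h : ξ ⤳ x)
    (hp : RingHom.ker (Cyc.specMap x ξ h) ∈ minimalPrimes (X.presheaf.stalk x)) :
    IsField (X.presheaf.stalk ξ) := by
  letI := (X.presheaf.stalkSpecializes h).hom.toAlgebra
  haveI : (RingHom.ker (Cyc.specMap x ξ h)).IsPrime := CycB.LocQuot.ker_isPrime h
  haveI := CycB.LocQuot.isLocalization_stalkSpecializes h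
  haveI : Ring.KrullDimLE 0 (X.presheaf.stalk ξ) :=
    Ring.KrullDimLE.of_isLocalization (RingHom.ker (Cyc.specMap x ξ h)) hp _
  exact Ring.KrullDimLE.isField_of_isReduced

theorem eq_zero_of_generic [AlgebraicGeometry.IsReduced X] [IsLocallyNoetherian X]
    (F : X.Modules) (hF : Coh.IsQCoh F) (htF : TorSh.IsTorsionFree F) (x : X)
    (m : F.presheaf.stalk x)
    (h : ∀ (ξ : X) (hξ : ξ ⤳ x), IsField (X.presheaf.stalk ξ) →
      F.presheaf.stalkSpecializes hξ m = 0) : m = 0 := by
  haveI := htF x
  refine eq_zero_of_minimal (R := X.presheaf.stalk x) m fun p hp => ?_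
  haveI := hp.isPrime
  obtain ⟨ξ, hξ, rfl⟩ := CycB.LocQuot.exists_eq_ker p
  exact CycB.CohStalk.exists_smul_eq_zero F hF hξ m (h ξ hξ (isField_of_minimal hξ hp))

theorem eq_zero_section_of_generic [AlgebraicGeometry.IsReduced X] [IsLocallyNoetherian X]
    (F : X.Modules) (hF : Coh.IsQCoh F) (htF : TorSh.IsTorsionFree F) (U : X.Opens)
    (s : Γ(F, U))
    (h : ∀ (ξ : X) (hξ : ξ ∈ U), IsField (X.presheaf.stalk ξ) →
      F.presheaf.germ U ξ hξ s = 0) : s = 0 := by
  apply TopCat.Presheaf.section_ext (⟨F.presheaf, F.isSheaf⟩ : TopCat.Sheaf Ab X) U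
  intro x hx
  have : F.presheaf.germ U x hx s = 0 := by
    apply eq_zero_of_generic F hF htF x
    intro ξ hξ hf
    rw [CycB.StalkLoc.germ_stalkSpecializes]
    exact h ξ _ hf
  exact this.trans (map_zero (F.presheaf.germ U x hx).hom).symm

/-- A point whose local ring is a field has a neighbourhood contained in its closure. -/
theorem exists_open_subset_closure [IsLocallyNoetherian X] (ξ : X)
    (h : IsField (X.presheaf.stalk ξ)) :
    ∃ W : X.Opens, ξ ∈ W ∧ (W : Set X) ⊆ closure {ξ} := by
  obtain ⟨V, hV, hξV, -⟩ := exists_isAffineOpen_mem_and_subset (X := X) (x := ξ) (U := ⊤) trivial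
  have hN : IsNoetherianRing Γ(X, V) := IsLocallyNoetherian.component_noetherian ⟨V, hV⟩
  let p : Ideal Γ(X, V) := RingHom.ker (X.presheaf.germ V ξ hξV).hom
  have hp : p.FG := (isNoetherianRing_iff_ideal_fg _).1 hN p
  have key : ∃ (W : X.Opens) (_ : ξ ∈ W) (i : W ≤ V), ∀ f ∈ p,
      X.presheaf.map (homOfLE i).op f = 0 := by
    obtain ⟨S, hS⟩ := hp
    have hSp : ∀ f ∈ S, X.presheaf.germ V ξ hξV f = 0 := by
      intro f hf
      have : f ∈ p := by rw [← hS]; exact Ideal.subset_span hf
      exact this
    clear_value p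
    subst hS
    classical
    induction S using Finset.induction_on with
    | empty =>
      refine ⟨V, hξV, le_rfl, fun f hf => ?_⟩
      have : f = 0 := by simpa using hf
      rw [this, map_zero]
    | insert g S hg IH =>
      obtain ⟨W, hW, i, hWf⟩ := IH (fun f hf => hSp f (Finset.mem_insert_of_mem hf))
      have hg0 := hSp g (Finset.mem_insert_self g S)
      obtain ⟨W', hW', i', hgW⟩ : ∃ (W' : X.Opens) (_ : ξ ∈ W') (i' : W' ≤ V),
          X.presheaf.map (homOfLE i').op g = 0 := by
        have h0 : X.presheaf.germ V ξ hξV g = X.presheaf.germ V ξ hξV 0 := by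
          rw [hg0, map_zero]
        obtain ⟨W', hW', i1, i2, he⟩ := X.presheaf.germ_eq ξ hξV hξV g 0 h0
        refine ⟨W', hW', i1.le, ?_⟩
        rw [map_zero] at he
        exact he
      refine ⟨W ⊓ W', ⟨hW, hW'⟩, inf_le_left.trans i, fun f hf => ?_⟩
      rw [Finset.coe_insert, Ideal.span_insert, Submodule.mem_sup] at hf
      obtain ⟨a, ha, b, hb, rfl⟩ := hf
      obtain ⟨c, rfl⟩ := Ideal.mem_span_singleton.1 ha
      have h1 : X.presheaf.map (homOfLE (inf_le_left.trans i : W ⊓ W' ≤ V)).op g = 0 := by
        have : (homOfLE (inf_le_left.trans i : W ⊓ W' ≤ V)).op =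
          (homOfLE i').op ≫ (homOfLE (inf_le_right : W ⊓ W' ≤ W')).op := rfl
        rw [this, Functor.map_comp, CommRingCat.comp_apply, hgW, map_zero]
      have h2 : X.presheaf.map (homOfLE (inf_le_left.trans i : W ⊓ W' ≤ V)).op b = 0 := by
        have : (homOfLE (inf_le_left.trans i : W ⊓ W' ≤ V)).op =
          (homOfLE i).op ≫ (homOfLE (inf_le_left : W ⊓ W' ≤ W)).op := rfl
        rw [this, Functor.map_comp, CommRingCat.comp_apply, hWf b hb, map_zero]
      rw [map_add, map_mul, h1, zero_mul, zero_add, h2]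
  obtain ⟨W, hξW, i, hWf⟩ := key
  refine ⟨W, hξW, fun y hy => ?_⟩
  rw [← specializes_iff_mem_closure, specializes_iff_forall_open]
  intro O hO hyO
  obtain ⟨f, hf, hyf⟩ := hV.exists_basicOpen_le (V := ⟨O, hO⟩) ⟨y, hyO⟩ (i hy)
  by_contra hξ
  have hfp : f ∈ p := by
    change X.presheaf.germ V ξ hξV f = 0
    by_contra hne
    apply hξ
    apply hf
    rw [X.mem_basicOpen f ξ hξV]
    obtain ⟨g, hg⟩ := h.mul_inv_cancel hne
    exact IsUnit.of_mul_eq_one _ hg
  have h3 := hWf f hfp
  have h4 : X.presheaf.germ V y (i hy) f = 0 := by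
    rw [← X.presheaf.germ_res_apply (homOfLE i) y hy f, h3, map_zero]
  rw [X.mem_basicOpen f y (i hy), h4] at hyf
  exact not_isUnit_zero hyf

/-- Dense opens contain all points whose local ring is a field. -/
theorem mem_of_dense [IsLocallyNoetherian X] (U : X.Opens) (hU : Dense (U : Set X)) (ξ : X)
    (h : IsField (X.presheaf.stalk ξ)) : ξ ∈ U := by
  obtain ⟨W, hξW, hW⟩ := exists_open_subset_closure ξ h
  obtain ⟨y, hyW, hyU⟩ := hU.inter_open_nonempty W W.2 ⟨ξ, hξW⟩
  exact (specializes_iff_mem_closure.2 (hW hyW) : ξ ⤳ y).mem_open U.2 hyU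

theorem isAssociatedPrime_maximalIdeal_iff {R : Type u} [CommRing R] [IsLocalRing R]
    [IsNoetherianRing R] {M : Type v} [AddCommGroup M] [Module R M] :
    IsAssociatedPrime (IsLocalRing.maximalIdeal R) M ↔
      ∃ m : M, m ≠ 0 ∧ ∀ r ∈ IsLocalRing.maximalIdeal R, r • m = 0 := by
  rw [isAssociatedPrime_iff]
  constructor
  · rintro ⟨hp, m, hm⟩
    refine ⟨m, ?_, fun r hr => ?_⟩
    · rintro rfl
      apply hp.ne_top
      rw [hm, Ideal.eq_top_iff_one, Submodule.mem_colon_singleton]
      simp
    · rw [hm, Submodule.mem_colon_singleton] at hr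
      simpa using hr
  · rintro ⟨m, hm, h⟩
    refine ⟨inferInstance, m, le_antisymm (fun r hr => ?_) (IsLocalRing.le_maximalIdeal ?_)⟩
    · rw [Submodule.mem_colon_singleton]
      simpa using h r hr
    · intro h1
      rw [Ideal.eq_top_iff_one, Submodule.mem_colon_singleton] at h1
      exact hm (by simpa using h1)

theorem isAssPoint_iff [IsLocallyNoetherian X] (F : X.Modules) (x : X) :
    Curv2.IsAssPoint F x ↔ ∃ m : F.presheaf.stalk x, m ≠ 0 ∧
      ∀ r ∈ IsLocalRing.maximalIdeal (X.presheaf.stalk x), r • m = 0 :=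
  isAssociatedPrime_maximalIdeal_iff

/-- A point which is closed and whose local ring is a field is open. -/
theorem isOpen_of_isField [IsLocallyNoetherian X] (x : X) (hx : IsClosed ({x} : Set X))
    (hfield : IsField (X.presheaf.stalk x)) : IsOpen ({x} : Set X) := by
  obtain ⟨W, hxW, hW⟩ := exists_open_subset_closure x hfield
  have : ({x} : Set X) = W := by
    apply Set.Subset.antisymm
    · rintro _ rfl
      exact hxW
    · rw [hx.closure_eq] at hW
      exact hW
  rw [this]
  exact W.2

/-- in a reduced local ring which is not a field nothing is killed by the maximal ideal -/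
theorem eq_zero_of_smul_maximalIdeal {R : Type u} [CommRing R] [IsLocalRing R]
    [_root_.IsReduced R] (hR : ¬ IsField R) (a : R)
    (ha : ∀ r ∈ IsLocalRing.maximalIdeal R, r * a = 0) : a = 0 := by
  by_contra hne
  have hau : IsUnit a := by
    by_contra hau
    exact hne (eq_zero_of_pow_eq_zero (n := 2) (by rw [sq]; exact ha a hau))
  apply hR
  rw [IsLocalRing.isField_iff_maximalIdeal_eq, eq_bot_iff]
  intro r hr
  exact (IsUnit.mul_left_eq_zero hau).1 (ha r hr)

theorem isField_of_maximalIdeal_le {R : Type u} [CommRing R] [IsLocalRing R]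
    [_root_.IsReduced R] {p : Ideal R} (hp : p ∈ minimalPrimes R)
    (h : IsLocalRing.maximalIdeal R ≤ p) : IsField R := by
  rw [IsLocalRing.isField_iff_maximalIdeal_eq, eq_bot_iff]
  intro r hr
  have h1 : r ∈ sInf (minimalPrimes R) := by
    rw [Ideal.mem_sInf]
    intro q hq
    have hq1 : q ≤ IsLocalRing.maximalIdeal R := IsLocalRing.le_maximalIdeal hq.isPrime.ne_top
    exact hp.2 ⟨hq.isPrime, bot_le⟩ (hq1.trans h) (h hr)
  have h3 : sInf (minimalPrimes R) = (⊥ : Ideal R).radical := Ideal.sInf_minimalPrimes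
  rw [h3] at h1
  obtain ⟨n, hn⟩ := h1
  exact eq_zero_of_pow_eq_zero ((Submodule.mem_bot R).1 hn)

/-- the maximal ideal of a reduced noetherian local ring which is not a field contains a regular
element -/
theorem exists_regular_mem_maximalIdeal {R : Type u} [CommRing R] [IsLocalRing R]
    [_root_.IsReduced R] [IsNoetherianRing R] (hR : ¬ IsField R) :
    ∃ r ∈ IsLocalRing.maximalIdeal R, IsRegular r :=
  exists_regular_of_forall_minimal _ fun _ hp hle => hR (isField_of_maximalIdeal_le hp hle)

theorem not_isAssociatedPrime_of_isTorsionFree {R : Type u} [CommRing R] [IsLocalRing R]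
    [_root_.IsReduced R] [IsNoetherianRing R] (hR : ¬ IsField R)
    {M : Type v} [AddCommGroup M] [Module R M] [Module.IsTorsionFree R M] :
    ¬ IsAssociatedPrime (IsLocalRing.maximalIdeal R) M := by
  rw [isAssociatedPrime_maximalIdeal_iff]
  rintro ⟨m, hm, h⟩
  obtain ⟨r, hr, hreg⟩ := exists_regular_mem_maximalIdeal hR
  exact hm (Module.IsTorsionFree.isSMulRegular hreg ((h r hr).trans (smul_zero r).symm))

end K977.TFGeneric
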