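import Groth.Agent.TFNodal.K977.PushPull
import Groth.Agent.VarietyB.PullSec
import Groth.Agent.CycB.StalkExact
import Groth.Agent.Ega1.QcqsPush

/-!
# The stalk of `π_* π^* F` for an affine morphism `π`
-/

set_option autoImplicit false
set_option linter.style.haveILetI false
universe u
open CategoryTheory CategoryTheory.Limits AlgebraicGeometry TopologicalSpace
open scoped TensorProduct

namespace K977.PushPullGeo

open Groth.Agent Groth.Agent.CycB.StalkExact Groth.Agent.VarietyB.PullSec

variable {X Y : Scheme.{u}} (π : Y ⟶ X) {V : X.Opens} (hV : IsAffineOpen V) (x : X) (hx : x ∈ V)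

/-- For `π` affine, `V` an affine neighbourhood of `x` and `B` the localization of
`Γ(Y, π ⁻¹ V)` at the prime of `x`, the stalk of `π_* π^* F` at `x` is `B ⊗ F_x`. -/
theorem exists_equiv [IsAffineHom π] (F : X.Modules) (hF : Coh.IsQCoh F) (B : Type u) [CommRing B]
    [i1 : Algebra (X.presheaf.stalk x) B] [i2 : Algebra Γ(Y, π ⁻¹ᵁ V) B]
    (hcomm : (algebraMap (X.presheaf.stalk x) B).comp (X.presheaf.germ V x hx).hom =
      (algebraMap Γ(Y, π ⁻¹ᵁ V) B).comp (π.appLE V (π ⁻¹ᵁ V) le_rfl).hom)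
    (hloc : IsLocalization ((hV.primeIdealOf ⟨x, hx⟩).asIdeal.primeCompl.map
      (π.appLE V (π ⁻¹ᵁ V) le_rfl).hom) B) :
    ∃ e : B ⊗[X.presheaf.stalk x] (F.presheaf.stalk x) ≃ₗ[X.presheaf.stalk x]
      (((Scheme.Modules.pushforward π).obj ((Scheme.Modules.pullback π).obj F)).presheaf.stalk x),
      ∀ n, e (1 ⊗ₜ n) =
        stalkLin ((Scheme.Modules.pullbackPushforwardAdjunction π).unit.app F) x n := by
  let G := (Scheme.Modules.pullback π).obj F
  have hG : Coh.IsQCoh G := isQCoh_pullback π F hF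
  have hPG : Coh.IsQCoh ((Scheme.Modules.pushforward π).obj G) :=
    Ega1.QcqsPush.isQCoh_pushforward π G hG
  let W : Y.Opens := π ⁻¹ᵁ V
  have hW : IsAffineOpen W := hV.preimage π
  letI a1 : Algebra Γ(X, V) Γ(Y, W) := (π.appLE V W le_rfl).hom.toAlgebra
  letI a2 : Algebra Γ(X, V) (X.presheaf.stalk x) := germAlg x hx
  letI a3 : Algebra Γ(X, V) B :=
    ((algebraMap (X.presheaf.stalk x) B).comp (X.presheaf.germ V x hx).hom).toAlgebra
  haveI t1 : IsScalarTower Γ(X, V) (X.presheaf.stalk x) B := IsScalarTower.of_algebraMap_eq' rfl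
  haveI t2 : IsScalarTower Γ(X, V) Γ(Y, W) B := IsScalarTower.of_algebraMap_eq' hcomm
  haveI t3 : IsLocalization (hV.primeIdealOf ⟨x, hx⟩).asIdeal.primeCompl (X.presheaf.stalk x) :=
    hV.isLocalization_stalk ⟨x, hx⟩
  haveI t4 : IsLocalization (Algebra.algebraMapSubmonoid Γ(Y, W)
    (hV.primeIdealOf ⟨x, hx⟩).asIdeal.primeCompl) B := hloc
  letI m1 := Fdesc.QCohStalk.stalkModule F x hx
  haveI t5 := stalk_isScalarTower F x hx
  letI m2 := secModule π F (le_refl W)
  haveI t6 : IsScalarTower Γ(X, V) Γ(Y, W) Γ(G, W) :=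
    ⟨fun a b c => by rw [Algebra.smul_def, mul_smul]; rfl⟩
  letI m3 := Fdesc.QCohStalk.stalkModule ((Scheme.Modules.pushforward π).obj G) x hx
  haveI t7 := stalk_isScalarTower ((Scheme.Modules.pushforward π).obj G) x hx
  let E : Γ(G, W) ≃ₗ[Γ(X, V)] Γ((Scheme.Modules.pushforward π).obj G, V) :=
    { toFun := fun s => s
      invFun := fun s => s
      left_inv := fun _ => rfl
      right_inv := fun _ => rfl
      map_add' := fun _ _ => rfl
      map_smul' := fun a s => by
        change π.appLE V W le_rfl a • s = π.app V a • s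
        rw [Scheme.Hom.app_eq_appLE] }
  have h1 := isBaseChange_germ F hF hV x hx
  have h2 := isBaseChange_secₗ π F (le_refl W) hF hV hW
  have h3 := (isBaseChange_germ ((Scheme.Modules.pushforward π).obj G) hPG hV x hx).comp_equiv E
  refine PushPull.exists_equiv_tensor (hV.primeIdealOf ⟨x, hx⟩).asIdeal.primeCompl
    (Fdesc.QCohStalk.germₗ F x hx) h1 (secₗ π F (le_refl W)) h2 _ h3 _ ?_
  intro s
  change stalkLin _ x (F.presheaf.germ V x hx s) =
    ((Scheme.Modules.pushforward π).obj G).presheaf.germ V x hx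
      (G.presheaf.map (homOfLE (le_refl W)).op
        (((Scheme.Modules.pullbackPushforwardAdjunction π).unit.app F).app V s))
  rw [stalkLin_germ]
  congr 1
  exact (congr($(G.presheaf.map_id _)
    (((Scheme.Modules.pullbackPushforwardAdjunction π).unit.app F).app V s))).symm

end K977.PushPullGeo
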