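import Groth.Agent.TFNodal.K977.NodeLoc
import Groth.Agent.TFNodal.K977.PushPullGeo
import Groth.Agent.TFNodal.K977.Generic
import Mathlib.AlgebraicGeometry.Morphisms.Finite

/-!
# The normalization at a node: the semilocal ring
-/

set_option autoImplicit false
set_option linter.style.haveILetI false
universe u
open CategoryTheory CategoryTheory.Limits AlgebraicGeometry TopologicalSpace
open scoped TensorProduct

namespace K977.NodeBlock

open Groth.Agent Groth.Agent.CycB.StalkExact Groth.Agent.VarietyB.PullSec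
open Groth.Agent.Sga7.H598.SNDef K977.NodeAlg

variable {X Y : Scheme.{u}} (π : Y ⟶ X) {V : X.Opens} (hV : IsAffineOpen V) (x : X) (hx : x ∈ V)

theorem isIso_app_of_isIso_restrict (U : X.Opens)
    (h : IsIso (π ∣_ U)) (V : X.Opens) (hV : V ≤ U) : IsIso (π.app V) := by
  have h1 : U.ι ''ᵁ (U.ι ⁻¹ᵁ V) = V := by
    rw [Scheme.Hom.image_preimage_eq_opensRange_inf]
    simpa using hV
  have h2 : IsIso ((π ∣_ U).app (U.ι ⁻¹ᵁ V)) := inferInstance
  rw [morphismRestrict_app] at h2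
  have h3 : IsIso (π.app (U.ι ''ᵁ (U.ι ⁻¹ᵁ V))) := by
    refine @IsIso.of_isIso_comp_right _ _ _ _ _ (π.app (U.ι ''ᵁ (U.ι ⁻¹ᵁ V))) _ ?_ h2
    exact Functor.map_isIso Y.presheaf _
  rw [h1] at h3
  exact h3

include hV hx in
theorem exists_point [IsAffineHom π] (q : Ideal Γ(Y, π ⁻¹ᵁ V)) (hq : q.IsPrime)
    (hqp : q.comap (π.appLE V (π ⁻¹ᵁ V) le_rfl).hom = (hV.primeIdealOf ⟨x, hx⟩).asIdeal) :
    ∃ (y : Y) (hy : y ∈ π ⁻¹ᵁ V), π y = x ∧
      ((hV.preimage π).primeIdealOf ⟨y, hy⟩).asIdeal = q := by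
  have hW : IsAffineOpen (π ⁻¹ᵁ V) := hV.preimage π
  let q' : ↥(Spec Γ(Y, π ⁻¹ᵁ V)) := (⟨q, hq⟩ : PrimeSpectrum Γ(Y, π ⁻¹ᵁ V))
  let y' : (π ⁻¹ᵁ V : Y.Opens) := hW.isoSpec.inv q'
  have hq' : hW.primeIdealOf y' = q' := by
    change hW.isoSpec.hom (hW.isoSpec.inv q') = q'
    rw [← Scheme.Hom.comp_apply, hW.isoSpec.inv_hom_id]
    rfl
  refine ⟨y'.1, y'.2, ?_, congrArg PrimeSpectrum.asIdeal hq'⟩
  have h1 : hW.fromSpec q' = y'.1 := by
    rw [← hq']
    exact hW.fromSpec_primeIdealOf y'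
  have h2 := IsAffineOpen.SpecMap_appLE_fromSpec π hV hW (le_refl (π ⁻¹ᵁ V))
  have h3 : π (hW.fromSpec q') = hV.fromSpec (Spec.map (π.appLE V (π ⁻¹ᵁ V) le_rfl) q') := by
    rw [← Scheme.Hom.comp_apply, ← h2, Scheme.Hom.comp_apply]
  rw [← h1, h3]
  have h4 : Spec.map (π.appLE V (π ⁻¹ᵁ V) le_rfl) q' = hV.primeIdealOf ⟨x, hx⟩ :=
    PrimeSpectrum.ext hqp
  rw [h4]
  exact hV.fromSpec_primeIdealOf ⟨x, hx⟩

include hV hx in
theorem exists_dvr [IsAffineHom π]
    (hdvr : ∀ y : Y, π y = x → ∃ _ : IsDomain (Y.presheaf.stalk y),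
      IsDiscreteValuationRing (Y.presheaf.stalk y))
    (q : Ideal Γ(Y, π ⁻¹ᵁ V)) (hq : q.IsPrime)
    (hqp : q.comap (π.appLE V (π ⁻¹ᵁ V) le_rfl).hom = (hV.primeIdealOf ⟨x, hx⟩).asIdeal) :
    ∃ _ : IsDomain (Localization.AtPrime q), IsDiscreteValuationRing (Localization.AtPrime q) := by
  obtain ⟨y, hy, hyx, rfl⟩ := exists_point π hV x hx q hq hqp
  obtain ⟨h1, h2⟩ := hdvr y hyx
  letI a1 := TopCat.Presheaf.algebra_section_stalk Y.presheaf ⟨y, hy⟩
  have hloc := (hV.preimage π).isLocalization_stalk ⟨y, hy⟩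
  let e : Y.presheaf.stalk y ≃ₐ[Γ(Y, π ⁻¹ᵁ V)]
      Localization.AtPrime ((hV.preimage π).primeIdealOf ⟨y, hy⟩).asIdeal :=
    IsLocalization.algEquiv ((hV.preimage π).primeIdealOf ⟨y, hy⟩).asIdeal.primeCompl _ _
  have hd : IsDomain (Localization.AtPrime ((hV.preimage π).primeIdealOf ⟨y, hy⟩).asIdeal) :=
    e.symm.toRingEquiv.toMulEquiv.isDomain _
  exact ⟨hd, _root_.IsDiscreteValuationRing.RingEquivClass.isDiscreteValuationRing e⟩

include hV in
/-- Functions on `π ⁻¹ V` become functions on `V` after multiplication by a power of `f`, if `π` is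
an isomorphism over `D(f)`. -/
theorem exists_pow_mul_eq [IsAffineHom π] (f : Γ(X, V)) (hf : IsIso (π.app (X.basicOpen f)))
    (b : Γ(Y, π ⁻¹ᵁ V)) : ∃ (n : ℕ) (a : Γ(X, V)), π.app V (f ^ n) * b = π.app V a := by
  have hW : IsAffineOpen (π ⁻¹ᵁ V) := hV.preimage π
  have hpre : π ⁻¹ᵁ (X.basicOpen f) = Y.basicOpen (π.app V f) := Scheme.preimage_basicOpen π f
  let b' : Γ(Y, π ⁻¹ᵁ (X.basicOpen f)) :=
    Y.presheaf.map (homOfLE (π.preimage_mono (X.basicOpen_le f))).op b
  obtain ⟨c, hc⟩ : ∃ c, π.app (X.basicOpen f) c = b' :=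
    ⟨inv (π.app (X.basicOpen f)) b', by
      rw [← CommRingCat.comp_apply, IsIso.inv_hom_id, CommRingCat.id_apply]⟩
  have hloc := hV.isLocalization_basicOpen f
  obtain ⟨n, a, ha⟩ := IsLocalization.Away.surj f c
  have hnat : ∀ z : Γ(X, V), π.app (X.basicOpen f) (X.presheaf.map (homOfLE (X.basicOpen_le f)).op z)
      = Y.presheaf.map (homOfLE (π.preimage_mono (X.basicOpen_le f))).op (π.app V z) := fun z =>
    congr($(π.naturality (homOfLE (X.basicOpen_le f)).op) z)
  have h1 : Y.presheaf.map (homOfLE (π.preimage_mono (X.basicOpen_le f))).op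
      (π.app V (f ^ n) * b - π.app V a) = 0 := by
    rw [map_sub, map_mul, ← hnat, ← hnat]
    change π.app (X.basicOpen f) (X.presheaf.map (homOfLE (X.basicOpen_le f)).op (f ^ n)) * b' -
      π.app (X.basicOpen f) (X.presheaf.map (homOfLE (X.basicOpen_le f)).op a) = 0
    rw [← hc, ← map_mul, sub_eq_zero]
    congr 1
    rw [map_pow]
    have ha' : c * (X.presheaf.map (homOfLE (X.basicOpen_le f)).op f) ^ n =
        X.presheaf.map (homOfLE (X.basicOpen_le f)).op a := ha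
    rw [← ha']
    ring
  have h2 : ∃ m : ℕ, (π.app V f) ^ m * (π.app V (f ^ n) * b - π.app V a) = 0 := by
    refine exists_pow_mul_eq_zero_of_res_basicOpen_eq_zero_of_isAffineOpen Y hW _ _ ?_
    have h3 : (homOfLE (Y.basicOpen_le (π.app V f))) =
        eqToHom hpre.symm ≫ homOfLE (π.preimage_mono (X.basicOpen_le f)) := rfl
    change Y.presheaf.map (homOfLE (Y.basicOpen_le (π.app V f))).op _ = 0
    rw [h3, op_comp, Functor.map_comp, CommRingCat.comp_apply, h1, map_zero]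
  obtain ⟨m, hm⟩ := h2
  refine ⟨m + n, f ^ m * a, ?_⟩
  rw [mul_sub, sub_eq_zero] at hm
  rw [map_mul, pow_add, map_mul, map_pow _ f m, ← hm, mul_assoc]

theorem dense_of_generic [AlgebraicGeometry.IsReduced X] (U : X.Opens)
    (hU : ∀ ξ : X, IsField (X.presheaf.stalk ξ) → ξ ∈ U) : Dense (U : Set X) := by
  rw [dense_iff_inter_open]
  rintro O hO ⟨w, hw⟩
  obtain ⟨p, hp, -⟩ := Ideal.exists_minimalPrimes_le
    (bot_le : (⊥ : Ideal (X.presheaf.stalk w)) ≤ IsLocalRing.maximalIdeal (X.presheaf.stalk w))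
  haveI := hp.1.1
  obtain ⟨ξ, hξ, rfl⟩ := CycB.LocQuot.exists_eq_ker p
  exact ⟨ξ, hξ.mem_open hO hw, hU ξ (TFGeneric.isField_of_minimal hξ hp)⟩

theorem injective_app [AlgebraicGeometry.IsReduced X] (U : X.Opens) (h : IsIso (π ∣_ U))
    (hU : Dense (U : Set X)) (V : X.Opens) : Function.Injective (π.app V) := by
  rw [injective_iff_map_eq_zero]
  intro a ha
  rw [← AlgebraicGeometry.basicOpen_eq_bot_iff]
  by_contra hne
  have hne' : ((X.basicOpen a : X.Opens) : Set X).Nonempty := by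
    rw [Set.nonempty_iff_ne_empty]
    intro h0
    exact hne (TopologicalSpace.Opens.ext h0)
  obtain ⟨z, hz1, hz2⟩ := hU.inter_open_nonempty _ (X.basicOpen a).2 hne'
  let V' : X.Opens := X.basicOpen a ⊓ U
  have hV' : V' ≤ V := inf_le_left.trans (X.basicOpen_le a)
  have hzV' : z ∈ V' := ⟨hz1, hz2⟩
  have hiso := isIso_app_of_isIso_restrict π U h V' inf_le_right
  have hnat : π.app V' (X.presheaf.map (homOfLE hV').op a)
      = Y.presheaf.map (homOfLE (π.preimage_mono hV')).op (π.app V a) :=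
    congr($(π.naturality (homOfLE hV').op) a)
  rw [ha, map_zero] at hnat
  have h1 : X.presheaf.map (homOfLE hV').op a = 0 := by
    have : inv (π.app V') (π.app V' (X.presheaf.map (homOfLE hV').op a)) =
        X.presheaf.map (homOfLE hV').op a := by
      rw [← CommRingCat.comp_apply, IsIso.hom_inv_id, CommRingCat.id_apply]
    rw [← this, hnat, map_zero]
  have h2 : IsUnit (X.presheaf.germ V z (hV' hzV') a) := (X.mem_basicOpen a z (hV' hzV')).1 hz1
  have h3 : X.presheaf.germ V z (hV' hzV') a = 0 := by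
    rw [← X.presheaf.germ_res_apply (homOfLE hV') z hzV' a, h1, map_zero]
  rw [h3] at h2
  exact not_isUnit_zero h2

/-- The semilocal ring of the normalization at a point `x`, with the description of the stalks of
`π_* π^* F`. -/
theorem exists_block [IsLocallyNoetherian X] [AlgebraicGeometry.IsReduced X]
    [AlgebraicGeometry.IsFinite π]
    (U : X.Opens) (hUiso : IsIso (π ∣_ U)) (hU : ∀ ξ : X, IsField (X.presheaf.stalk ξ) → ξ ∈ U)
    (x : X) (hsp : ∀ ξ : X, ξ ⤳ x → ξ ≠ x → ξ ∈ U)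
    (hdvr : ∀ y : Y, π y = x → ∃ _ : IsDomain (Y.presheaf.stalk y),
      IsDiscreteValuationRing (Y.presheaf.stalk y))
    (hsn : SN (X.presheaf.stalk x)) :
    ∃ (B : Type u) (_ : CommRing B) (_ : Algebra (X.presheaf.stalk x) B)
      (_ : Module.Finite (X.presheaf.stalk x) B) (_ : Nontrivial B), Hyp (X.presheaf.stalk x) B ∧
      ∀ (F : X.Modules), Coh.IsQCoh F → ∃ e : B ⊗[X.presheaf.stalk x] (F.presheaf.stalk x)
        ≃ₗ[X.presheaf.stalk x] (((Scheme.Modules.pushforward π).obj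
          ((Scheme.Modules.pullback π).obj F)).presheaf.stalk x),
        ∀ n, e (1 ⊗ₜ n) =
          stalkLin ((Scheme.Modules.pullbackPushforwardAdjunction π).unit.app F) x n := by
  obtain ⟨V, hV, hx, -⟩ := exists_isAffineOpen_mem_and_subset (X := X) (x := x) (U := ⊤) trivial
  have hNX : IsNoetherianRing Γ(X, V) := IsLocallyNoetherian.component_noetherian ⟨V, hV⟩
  have hNO : IsNoetherianRing (X.presheaf.stalk x) := inferInstance
  let p : Ideal Γ(X, V) := (hV.primeIdealOf ⟨x, hx⟩).asIdeal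
  haveI hp : p.IsPrime := (hV.primeIdealOf ⟨x, hx⟩).isPrime
  let W : Y.Opens := π ⁻¹ᵁ V
  letI a1 : Algebra Γ(X, V) Γ(Y, W) := (π.appLE V W le_rfl).hom.toAlgebra
  letI a2 : Algebra Γ(X, V) (X.presheaf.stalk x) := germAlg x hx
  haveI t3 : IsLocalization.AtPrime (X.presheaf.stalk x) p := hV.isLocalization_stalk ⟨x, hx⟩
  haveI hfin0 : Module.Finite Γ(X, V) Γ(Y, W) := by
    have := IsFinite.finite_app π V hV
    rw [Scheme.Hom.app_eq_appLE] at this
    exact this
  let B := Localization (Algebra.algebraMapSubmonoid Γ(Y, W) p.primeCompl)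
  letI a4 : Algebra (X.presheaf.stalk x) B := localizationAlgebra p.primeCompl Γ(Y, W)
  haveI t1 : IsScalarTower Γ(X, V) (X.presheaf.stalk x) B :=
    isScalarTower_localizationAlgebra p.primeCompl Γ(Y, W)
  haveI hfin : Module.Finite (X.presheaf.stalk x) B :=
    Module.Finite.of_isLocalization Γ(X, V) Γ(Y, W) p.primeCompl
  have hUd := dense_of_generic U hU
  have happ : ∀ z : Γ(X, V), algebraMap Γ(X, V) Γ(Y, W) z = π.app V z := fun z => by
    rw [Scheme.Hom.app_eq_appLE]; rfl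
  have hinj0 : Function.Injective (algebraMap Γ(X, V) Γ(Y, W)) := by
    have := injective_app π U hUiso hUd V
    intro a b hab
    apply this
    rwa [happ, happ] at hab
  have hinj : Function.Injective (algebraMap (X.presheaf.stalk x) B) :=
    NodeLoc.injective_of p hinj0
  have hloc : LocDVR B := NodeLoc.locDVR_of p (O := X.presheaf.stalk x)
    (exists_dvr π hV x hx hdvr)
  have hcond : ∃ N : ℕ, ∀ a ∈ IsLocalRing.maximalIdeal (X.presheaf.stalk x) ^ N, ∀ b : B,
      algebraMap (X.presheaf.stalk x) B a * b ∈ (algebraMap (X.presheaf.stalk x) B).range := by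
    refine NodeLoc.exists_pow_of p (B₀ := Γ(Y, W)) ?_
    intro P hP hPm
    obtain ⟨ξ, hξ, rfl⟩ := CycB.LocQuot.exists_eq_ker P
    have hξx : ξ ≠ x := by
      rintro rfl
      apply hPm
      apply IsLocalRing.eq_maximalIdeal
      rw [← CycB.LocQuot.primeOf_asIdeal, CycB.LocQuot.primeOf]
      have : (X.presheaf.stalkSpecializes hξ) = 𝟙 _ := by
        simp
      rw [this]
      exact IsLocalRing.maximalIdeal.isMaximal _
    have hξV : ξ ∈ V := hξ.mem_open V.2 hx
    obtain ⟨f, hf, hξf⟩ := hV.exists_basicOpen_le (V := V ⊓ U) ⟨ξ, ⟨hξV, hsp ξ hξ hξx⟩⟩ hξV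
    refine ⟨f, ?_, ?_⟩
    · rw [CycB.LocQuot.mem_ker_specMap_iff, not_not]
      have : (X.presheaf.stalkSpecializes hξ).hom (algebraMap Γ(X, V) (X.presheaf.stalk x) f) =
          X.presheaf.germ V ξ hξV f :=
        congr($(X.presheaf.germ_stalkSpecializes hx hξ) f)
      rw [this]
      exact (X.mem_basicOpen f ξ hξV).1 hξf
    · intro b
      obtain ⟨n, a, ha⟩ := exists_pow_mul_eq π hV f
        (isIso_app_of_isIso_restrict π U hUiso _ (hf.trans inf_le_right)) b
      exact ⟨n, a, by rw [happ, happ]; exact ha⟩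
  have hnt : Nontrivial B := hinj.nontrivial
  refine ⟨B, inferInstance, a4, hfin, hnt, ⟨hinj, hloc, hsn, hcond⟩, fun F hF => ?_⟩
  refine PushPullGeo.exists_equiv π hV x hx F hF B ?_ ?_
  · have h1 := IsScalarTower.algebraMap_eq Γ(X, V) (X.presheaf.stalk x) B
    have h2 := IsScalarTower.algebraMap_eq Γ(X, V) Γ(Y, W) B
    exact h1.symm.trans h2
  · exact (Localization.isLocalization :
      IsLocalization (Algebra.algebraMapSubmonoid Γ(Y, W) p.primeCompl) B)

end K977.NodeBlock
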