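import Groth.Agent.TFNodal.K977.PushPullGeo
import Groth.Agent.TFNodal.K977.NodeBlock
import Groth.Agent.Dcoh.StalkMod

/-!
# The unit `F → π_* π^* F` over an open on which `π` is an isomorphism; stalks of cokernels
-/

set_option autoImplicit false
set_option linter.style.haveILetI false
universe u
open CategoryTheory CategoryTheory.Limits AlgebraicGeometry TopologicalSpace
open scoped TensorProduct

namespace K977.UnitOn

open Groth.Agent Groth.Agent.CycB.StalkExact Groth.Agent.VarietyB.PullSec

variable {X Y : Scheme.{u}} (π : Y ⟶ X)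

theorem unit_bijective [IsAffineHom π] (F : X.Modules) (hF : Coh.IsQCoh F) (U : X.Opens)
    (hU : IsIso (π ∣_ U)) (x : X) (hxU : x ∈ U) :
    Function.Bijective
      (stalkLin ((Scheme.Modules.pullbackPushforwardAdjunction π).unit.app F) x) := by
  obtain ⟨V, hV, hx, hVU⟩ := exists_isAffineOpen_mem_and_subset (X := X) (x := x) (U := U) hxU
  let W : Y.Opens := π ⁻¹ᵁ V
  have hiso : IsIso (π.appLE V W le_rfl) := by
    rw [← Scheme.Hom.app_eq_appLE]
    exact NodeBlock.isIso_app_of_isIso_restrict π U hU V hVU
  let h : Γ(X, V) ≃+* Γ(Y, W) := (asIso (π.appLE V W le_rfl)).commRingCatIsoToRingEquiv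
  letI a2 : Algebra Γ(X, V) (X.presheaf.stalk x) := germAlg x hx
  letI a3 : Algebra Γ(Y, W) (X.presheaf.stalk x) :=
    ((algebraMap Γ(X, V) (X.presheaf.stalk x)).comp h.symm.toRingHom).toAlgebra
  haveI t3 : IsLocalization (hV.primeIdealOf ⟨x, hx⟩).asIdeal.primeCompl (X.presheaf.stalk x) :=
    hV.isLocalization_stalk ⟨x, hx⟩
  have hloc := IsLocalization.isLocalization_of_base_ringEquiv
    (hV.primeIdealOf ⟨x, hx⟩).asIdeal.primeCompl (X.presheaf.stalk x) h
  obtain ⟨e, he⟩ := PushPullGeo.exists_equiv π hV x hx F hF (X.presheaf.stalk x) (by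
    ext z
    change X.presheaf.germ V x hx z = X.presheaf.germ V x hx (h.symm (h z))
    rw [RingEquiv.symm_apply_apply]) hloc
  have key : (stalkLin ((Scheme.Modules.pullbackPushforwardAdjunction π).unit.app F) x) =
      e.toLinearMap ∘ₗ (TensorProduct.lid (X.presheaf.stalk x) (F.presheaf.stalk x)).symm.toLinearMap := by
    ext n
    exact (he n).symm
  rw [key]
  exact e.bijective.comp (TensorProduct.lid _ _).symm.bijective

theorem nonempty_coker_equiv {M N : X.Modules} (f : M ⟶ N) (x : X) :
    Nonempty ((N.presheaf.stalk x ⧸ LinearMap.range (stalkLin f x)) ≃ₗ[X.presheaf.stalk x]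
      (cokernel f).presheaf.stalk x) := by
  have h1 := stalkLin_exact (ShortComplex.mk f (cokernel.π f) (cokernel.condition f))
    (ShortComplex.exact_cokernel f) x
  have h2 : Function.Surjective (stalkLin (cokernel.π f) x) := stalkLin_surjective _ x
  exact ⟨(Submodule.quotEquivOfEq _ _ (LinearMap.exact_iff.1 h1).symm).trans
    (LinearMap.quotKerEquivOfSurjective _ h2)⟩

theorem length_coker {M N : X.Modules} (f : M ⟶ N) (x : X) :
    Module.length (X.presheaf.stalk x) ((cokernel f).presheaf.stalk x) =
      Module.length (X.presheaf.stalk x)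
        (N.presheaf.stalk x ⧸ LinearMap.range (stalkLin f x)) := by
  obtain ⟨e⟩ := nonempty_coker_equiv f x
  exact e.symm.length_eq

theorem subsingleton_coker {M N : X.Modules} (f : M ⟶ N) (x : X)
    (h : Function.Surjective (stalkLin f x)) : Subsingleton ((cokernel f).presheaf.stalk x) := by
  obtain ⟨e⟩ := nonempty_coker_equiv f x
  have : Subsingleton (N.presheaf.stalk x ⧸ LinearMap.range (stalkLin f x)) := by
    rw [LinearMap.range_eq_top.2 h]
    infer_instance
  exact e.symm.toEquiv.subsingleton

end K977.UnitOn
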