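import Groth.Agent.TFNodal.K977.TorsPush
import Groth.Agent.TFNodal.K977.NodeNorm
import Groth.Agent.PerfA.CohSerre

/-!
# The map `β : F → π_* E₀`
-/

set_option autoImplicit false
set_option linter.style.haveILetI false
set_option linter.unusedSectionVars false
universe u
open CategoryTheory CategoryTheory.Limits AlgebraicGeometry TopologicalSpace
open scoped TensorProduct

namespace K977.Beta

open Groth.Agent Groth.Agent.CycB.StalkExact Groth.Agent.CycB.PushStalk

section Gen

variable {X Y : Scheme.{u}}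

theorem stalkLin_spec {M N : X.Modules} (φ : M ⟶ N) {x ξ : X} (h : ξ ⤳ x)
    (m : M.presheaf.stalk x) : stalkLin φ ξ (M.presheaf.stalkSpecializes h m) =
      N.presheaf.stalkSpecializes h (stalkLin φ x m) := by
  obtain ⟨V, hx, m, rfl⟩ := M.presheaf.exists_germ_eq m
  have hξ : ξ ∈ V := h.mem_open V.2 hx
  rw [CycB.StalkLoc.germ_stalkSpecializes, stalkLin_germ, stalkLin_germ,
    CycB.StalkLoc.germ_stalkSpecializes]

/-- injectivity of direct images of maps -/
theorem injective_push (π : Y ⟶ X) (hcl : IsClosedMap π) {M N : Y.Modules} (φ : M ⟶ N) (x : X)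
    (h : ∀ y : Y, π y = x → Function.Injective (stalkLin φ y)) :
    Function.Injective (stalkLin ((Scheme.Modules.pushforward π).map φ) x) := by
  rw [injective_iff_map_eq_zero]
  intro e he
  obtain ⟨V, hx, t, rfl⟩ := ((Scheme.Modules.pushforward π).obj M).presheaf.exists_germ_eq e
  apply TorsPush.germ_eq_zero_of_fibre π hcl
  intro y hy hyx
  subst hyx
  apply h y rfl
  rw [map_zero]
  have h1 := congrArg (pushStalk π N y) he
  rw [pushStalk_natural, map_zero, pushStalk_germ] at h1
  exact h1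

/-- a map out of a torsion free module is injective if it is at the generic points -/
theorem injective_of_generic [IsLocallyNoetherian X] [AlgebraicGeometry.IsReduced X]
    {F G : X.Modules} (φ : F ⟶ G) (hF : Coh.IsQCoh F) (htF : TorSh.IsTorsionFree F)
    (h : ∀ ξ : X, IsField (X.presheaf.stalk ξ) → Function.Injective (stalkLin φ ξ)) (x : X) :
    Function.Injective (stalkLin φ x) := by
  rw [injective_iff_map_eq_zero]
  intro n hn
  apply TFGeneric.eq_zero_of_generic F hF htF x n
  intro ξ hξ hf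
  apply h ξ hf
  rw [map_zero, stalkLin_spec, hn, map_zero]

end Gen

theorem isTorsionFree_of_type {A : Type u} [CommRing A] [IsLocalRing A] {N : Type u}
    [AddCommGroup N] [Module A N] {a c : ℕ}
    (φ : N ≃ₗ[A] (Fin a → A) × (Fin c → IsLocalRing.maximalIdeal A)) :
    Module.IsTorsionFree A N where
  isSMulRegular s hs n n' h := by
    apply φ.injective
    have h1 : s • φ n = s • φ n' := by
      rw [← map_smul, ← map_smul]
      exact congrArg φ h
    apply Prod.ext
    · funext i
      exact hs.1 (congrFun (congrArg Prod.fst h1) i)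
    · funext j
      apply Subtype.ext
      exact hs.1 (congrArg Subtype.val (congrFun (congrArg Prod.snd h1) j))

section Main

variable (k : Type u) [Field k] [IsAlgClosed k]
    (X : Scheme.{u}) [X.Over (Spec (CommRingCat.of k))]
    [LocallyOfFiniteType (X ↘ Spec (CommRingCat.of k))]
    [QuasiCompact (X ↘ Spec (CommRingCat.of k))]
    (hdim : topologicalKrullDim X ≤ 1) (hnod : Curv2.AtWorstNodal k X)
    (Y : Scheme.{u}) (π : Y ⟶ X) [AlgebraicGeometry.IsFinite π]
    [Smooth (π ≫ (X ↘ Spec (CommRingCat.of k)))]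
    (U : X.Opens) (hU : ∀ x : X, x ∈ U ↔ ¬ Curv2.IsNode k X x) (hUiso : IsIso (π ∣_ U))
    (hUd : Dense ((π ⁻¹ᵁ U : Y.Opens) : Set Y))
    (r : ℕ) (F : X.Modules) (hF : Coh.IsCoh F) (a : X → ℕ)
    (hfree : ∀ x : X, ¬ Curv2.IsNode k X x →
      Nonempty (F.presheaf.stalk x ≃ₗ[X.presheaf.stalk x] (Fin r → X.presheaf.stalk x)))
    (htype : ∀ x : X, Curv2.IsNode k X x → a x ≤ r ∧
      Nonempty (F.presheaf.stalk x ≃ₗ[X.presheaf.stalk x]
        ((Fin (a x) → X.presheaf.stalk x) ×
          (Fin (r - a x) → IsLocalRing.maximalIdeal (X.presheaf.stalk x)))))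

include hfree htype in
theorem isTorsionFree : TorSh.IsTorsionFree F := by
  intro x
  by_cases hx : Curv2.IsNode k X x
  · obtain ⟨-, ⟨φ⟩⟩ := htype x hx
    exact isTorsionFree_of_type φ
  · obtain ⟨e⟩ := hfree x hx
    exact TFNorm.isTorsionFree_of_equiv e

variable (E₀ : Y.Modules) (hE₀ : FlatMod.IsFinLocFreeOfRank r E₀)
    (p : (Scheme.Modules.pullback π).obj F ⟶ E₀) [Epi p]

/-- `β : F → π_* E₀` -/
noncomputable def beta : F ⟶ (Scheme.Modules.pushforward π).obj E₀ :=
  (Scheme.Modules.pullbackPushforwardAdjunction π).unit.app F ≫ (Scheme.Modules.pushforward π).map p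

theorem beta_def : (Scheme.Modules.pullbackPushforwardAdjunction π).unit.app F ≫
    (Scheme.Modules.pushforward π).map p = beta X Y π F E₀ p := rfl

include hE₀ in
theorem isQCoh_of_rank [IsLocallyNoetherian Y] : Coh.IsQCoh E₀ :=
  (PerfA.CohSerre.isCoh_of_isFinLocFree fun x => by
    obtain ⟨W, hW, e⟩ := hE₀ x
    exact ⟨W, r, hW, e⟩).1

include hF hE₀ in
theorem push_surjective [IsLocallyNoetherian Y] (x : X) :
    Function.Surjective (stalkLin ((Scheme.Modules.pushforward π).map p) x) := by
  haveI := K38.DirImg.epi_pushforward π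
    (VarietyB.PullSec.isQCoh_pullback π F hF.1) (isQCoh_of_rank Y r E₀ hE₀) p
  exact stalkLin_surjective _ x

include hU hfree hE₀ in
theorem push_injective (x : X) (hx : x ∈ U) :
    Function.Injective (stalkLin ((Scheme.Modules.pushforward π).map p) x) := by
  apply injective_push π π.isClosedMap
  intro y hyx
  subst hyx
  exact TFNorm.stalkLin_injective_of_epi π F E₀ hE₀ p y (hfree _ ((hU _).1 hx))

include hU hUiso hF hfree hE₀ in
theorem beta_bijective [IsLocallyNoetherian Y] (x : X) (hx : x ∈ U) :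
    Function.Bijective (stalkLin (beta X Y π F E₀ p) x) := by
  have h1 : Function.Bijective (stalkLin ((Scheme.Modules.pushforward π).map p) x) :=
    ⟨push_injective k X Y π U hU r F hfree E₀ hE₀ p x hx,
      push_surjective X Y π r F hF E₀ hE₀ p x⟩
  rw [beta, stalkLin_comp]
  exact h1.comp (UnitOn.unit_bijective π F hF.1 U hUiso x hx)

include hdim hnod hU hUiso hUd hF hfree htype hE₀

theorem beta_injective (x : X) : Function.Injective (stalkLin (beta X Y π F E₀ p) x) := by
  have hNX : IsLocallyNoetherian X :=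
    LocallyOfFiniteType.isLocallyNoetherian (X ↘ Spec (CommRingCat.of k))
  have hNY : IsLocallyNoetherian Y := LocallyOfFiniteType.isLocallyNoetherian π
  have hR := NodeNorm.isReduced k X hnod
  refine injective_of_generic _ hF.1 (isTorsionFree k X r F a hfree htype) ?_ x
  intro ξ hξ
  refine (beta_bijective k X Y π U hU hUiso r F hF hfree E₀ hE₀ p ξ ?_).1
  rw [hU]
  exact fun h => NodeNorm.not_isField k X h hξ

/-- nothing in `(π_* E₀)_x` is killed by the maximal ideal, `x` a node -/
theorem eq_zero_of_smul (E : Y.Modules) (hE : FlatMod.IsFinLocFreeOfRank r E)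
    (x : X) (hx : Curv2.IsNode k X x)
    (e : ((Scheme.Modules.pushforward π).obj E).presheaf.stalk x)
    (he : ∀ s ∈ IsLocalRing.maximalIdeal (X.presheaf.stalk x), s • e = 0) : e = 0 := by
  have hNX : IsLocallyNoetherian X :=
    LocallyOfFiniteType.isLocallyNoetherian (X ↘ Spec (CommRingCat.of k))
  have hNY : IsLocallyNoetherian Y := LocallyOfFiniteType.isLocallyNoetherian π
  have hRY : AlgebraicGeometry.IsReduced Y :=
    Etcore.SmoothRed.isReduced_of_smooth (π ≫ (X ↘ Spec (CommRingCat.of k)))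
  have hd : ∀ y : Y, π y = x → IsDomain (Y.presheaf.stalk y) := by
    intro y hy
    refine (Models.H58.NodalGlueGeo.dvr_stalk (X ↘ Spec (CommRingCat.of k)) π hdim U hUd y ?_).1
    intro hyU
    have : π y ∈ U := hyU
    rw [hy, hU] at this
    exact this hx
  refine TorsPush.eq_zero_of_smul π π.isClosedMap E (TFNorm.isTorsionFree_of_rank hE) x hd ?_ e he
  intro y hy
  refine TorsPush.exists_stalkMap_ne_zero π U hUd y ?_ (hd y hy)
  rw [hy, hU]
  exact not_not.2 hx

/-- `m · (π_* E₀)_x ⊆ β(F_x)`, `x` a node -/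
theorem smul_mem_range (x : X) (hx : Curv2.IsNode k X x)
    (s : X.presheaf.stalk x) (hs : s ∈ IsLocalRing.maximalIdeal (X.presheaf.stalk x))
    (e : ((Scheme.Modules.pushforward π).obj E₀).presheaf.stalk x) :
    ∃ n, stalkLin (beta X Y π F E₀ p) x n = s • e := by
  have hNX : IsLocallyNoetherian X :=
    LocallyOfFiniteType.isLocallyNoetherian (X ↘ Spec (CommRingCat.of k))
  have hNY : IsLocallyNoetherian Y := LocallyOfFiniteType.isLocallyNoetherian π
  obtain ⟨B, i1, i2, i3, i4, hH, hlen, hE⟩ :=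
    NodeNorm.exists_node_block k X hdim hnod Y π U hU hUiso hUd x hx
  obtain ⟨e', he'⟩ := hE F hF.1
  obtain ⟨w, rfl⟩ := push_surjective X Y π r F hF E₀ hE₀ p x e
  obtain ⟨z, rfl⟩ := e'.surjective w
  obtain ⟨n, hn⟩ := TypeAlg.exists_smul_eq hH s hs z
  refine ⟨n, ?_⟩
  rw [← map_smul, ← map_smul, hn, he', beta, stalkLin_comp, LinearMap.comp_apply]

theorem length_coker_beta (x : X) (hx : Curv2.IsNode k X x) :
    Module.length (X.presheaf.stalk x) ((cokernel (beta X Y π F E₀ p)).presheaf.stalk x) =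
      (a x : ℕ∞) := by
  have hNX : IsLocallyNoetherian X :=
    LocallyOfFiniteType.isLocallyNoetherian (X ↘ Spec (CommRingCat.of k))
  have hNY : IsLocallyNoetherian Y := LocallyOfFiniteType.isLocallyNoetherian π
  obtain ⟨B, i1, i2, i3, i4, hH, hlen, hE⟩ :=
    NodeNorm.exists_node_block k X hdim hnod Y π U hU hUiso hUd x hx
  obtain ⟨e, he⟩ := hE F hF.1
  obtain ⟨har, ⟨φ⟩⟩ := htype x hx
  rw [UnitOn.length_coker]
  refine TypeAlg.length_coker_beta hH φ
    ((stalkLin ((Scheme.Modules.pushforward π).map p) x) ∘ₗ e.toLinearMap) ?_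
    (stalkLin (beta X Y π F E₀ p) x) ?_ ?_ ?_ hlen
  · exact (push_surjective X Y π r F hF E₀ hE₀ p x).comp e.surjective
  · intro n
    rw [beta, stalkLin_comp, LinearMap.comp_apply, LinearMap.comp_apply]
    exact congrArg _ (he n)
  · exact beta_injective k X hdim hnod Y π U hU hUiso hUd r F hF a hfree htype E₀ hE₀ p x
  · exact eq_zero_of_smul k X hdim hnod Y π U hU hUiso hUd r F hF a hfree htype E₀ hE₀ E₀ hE₀ x hx

/-- `π_* λ` is injective if `β ≫ π_* λ` is. -/
theorem injective_lam (E : Y.Modules) (lam : E₀ ⟶ E) (x : X) (hx : Curv2.IsNode k X x)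
    (h : Function.Injective
      (stalkLin (beta X Y π F E₀ p ≫ (Scheme.Modules.pushforward π).map lam) x)) :
    Function.Injective (stalkLin ((Scheme.Modules.pushforward π).map lam) x) := by
  rw [injective_iff_map_eq_zero]
  intro e he
  refine eq_zero_of_smul k X hdim hnod Y π U hU hUiso hUd r F hF a hfree htype E₀ hE₀ E₀ hE₀ x hx e ?_
  intro s hs
  obtain ⟨n, hn⟩ := smul_mem_range k X hdim hnod Y π U hU hUiso hUd r F hF a hfree htype E₀ hE₀ p x
    hx s hs e
  have h1 : n = 0 := by
    apply h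
    rw [map_zero, stalkLin_comp, LinearMap.comp_apply, hn, map_smul, he, smul_zero]
  rw [← hn, h1, map_zero]

end Main

/-- additivity of lengths of cokernels -/
theorem length_comp {A : Type u} [CommRing A] {N P Q : Type u} [AddCommGroup N] [Module A N]
    [AddCommGroup P] [Module A P] [AddCommGroup Q] [Module A Q] (β : N →ₗ[A] P) (l : P →ₗ[A] Q)
    (hl : Function.Injective l) :
    Module.length A (Q ⧸ LinearMap.range (l ∘ₗ β)) =
      Module.length A (P ⧸ LinearMap.range β) + Module.length A (Q ⧸ LinearMap.range l) := by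
  have hle : LinearMap.range (l ∘ₗ β) ≤ LinearMap.range l := by
    rintro _ ⟨n, rfl⟩
    exact ⟨β n, rfl⟩
  let f : (P ⧸ LinearMap.range β) →ₗ[A] (Q ⧸ LinearMap.range (l ∘ₗ β)) :=
    Submodule.mapQ _ _ l (by
      rintro _ ⟨n, rfl⟩
      exact ⟨n, rfl⟩)
  let g : (Q ⧸ LinearMap.range (l ∘ₗ β)) →ₗ[A] (Q ⧸ LinearMap.range l) := Submodule.factor hle
  refine Module.length_eq_add_of_exact f g ?_ (Submodule.factor_surjective hle) ?_
  · rw [injective_iff_map_eq_zero]
    intro y hy
    obtain ⟨y, rfl⟩ := Submodule.Quotient.mk_surjective _ y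
    obtain ⟨n, hn⟩ := (Submodule.Quotient.mk_eq_zero _).1 hy
    rw [Submodule.Quotient.mk_eq_zero]
    exact ⟨n, hl hn⟩
  · intro z
    obtain ⟨z, rfl⟩ := Submodule.Quotient.mk_surjective _ z
    constructor
    · intro hz
      obtain ⟨y, hy⟩ := (Submodule.Quotient.mk_eq_zero (LinearMap.range l)).1 hz
      exact ⟨Submodule.Quotient.mk y, congrArg Submodule.Quotient.mk hy⟩
    · rintro ⟨y, hy⟩
      obtain ⟨y, rfl⟩ := Submodule.Quotient.mk_surjective _ y
      rw [← hy]
      exact (Submodule.Quotient.mk_eq_zero (LinearMap.range l)).2 ⟨y, rfl⟩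

end K977.Beta
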