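import Mathlib.RingTheory.Length
import Mathlib.RingTheory.LocalRing.MaximalIdeal.Basic
import Mathlib.LinearAlgebra.Pi
import Mathlib.LinearAlgebra.Prod
import Mathlib.RingTheory.SimpleModule.Basic

/-!
# The free module containing `A^a × m^c`
-/

set_option autoImplicit false
set_option linter.style.haveILetI false
universe u

open IsLocalRing

namespace K977.LatAlg

variable {A : Type u} [CommRing A] [IsLocalRing A] {N : Type u} [AddCommGroup N] [Module A N]
  {a c : ℕ}

/-- the free module -/
abbrev L (A : Type u) (a c : ℕ) : Type u := (Fin a → A) × (Fin c → A)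

/-- the inclusion `A^a × m^c → A^a × A^c` -/
noncomputable def incl (A : Type u) [CommRing A] [IsLocalRing A] (a c : ℕ) :
    ((Fin a → A) × (Fin c → maximalIdeal A)) →ₗ[A] L A a c :=
  LinearMap.prodMap LinearMap.id ((maximalIdeal A).subtype.compLeft (Fin c))

theorem incl_apply (x : (Fin a → A) × (Fin c → maximalIdeal A)) :
    incl A a c x = (x.1, fun j => (x.2 j : A)) := rfl

theorem incl_injective : Function.Injective (incl A a c) := by
  intro x y h
  rw [incl_apply, incl_apply, Prod.mk.injEq] at h
  refine Prod.ext h.1 ?_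
  funext j
  exact Subtype.ext (congrFun h.2 j)

variable (φ : N ≃ₗ[A] (Fin a → A) × (Fin c → maximalIdeal A))

/-- the embedding of `N` in a free module -/
noncomputable def emb : N →ₗ[A] L A a c := incl A a c ∘ₗ φ.toLinearMap

theorem emb_injective : Function.Injective (emb φ) := incl_injective.comp φ.injective

theorem exists_emb (s : A) (hs : s ∈ maximalIdeal A) (w : L A a c) : ∃ n, emb φ n = s • w := by
  refine ⟨φ.symm (s • w.1, fun j => ⟨s * w.2 j, Ideal.mul_mem_right _ _ hs⟩), ?_⟩
  rw [emb, LinearMap.comp_apply]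
  change incl A a c (φ (φ.symm _)) = _
  rw [LinearEquiv.apply_symm_apply]
  rfl

/-- the quotient `A^r → κ^c` -/
noncomputable def quo (A : Type u) [CommRing A] [IsLocalRing A] (a c : ℕ) :
    L A a c →ₗ[A] (Fin c → A ⧸ maximalIdeal A) :=
  ((maximalIdeal A).mkQ.compLeft (Fin c)) ∘ₗ LinearMap.snd A _ _

theorem quo_surjective : Function.Surjective (quo A a c) := by
  intro y
  choose v hv using fun j => Submodule.Quotient.mk_surjective _ (y j)
  exact ⟨(0, v), funext hv⟩

theorem ker_quo : LinearMap.ker (quo A a c) = LinearMap.range (emb φ) := by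
  ext w
  rw [LinearMap.mem_ker]
  constructor
  · intro hw
    have h1 : ∀ j, w.2 j ∈ maximalIdeal A := fun j =>
      (Submodule.Quotient.mk_eq_zero _).1 (congrFun hw j)
    refine ⟨φ.symm (w.1, fun j => ⟨w.2 j, h1 j⟩), ?_⟩
    rw [emb, LinearMap.comp_apply]
    change incl A a c (φ (φ.symm _)) = _
    rw [LinearEquiv.apply_symm_apply]
    rfl
  · rintro ⟨n, rfl⟩
    funext j
    exact (Submodule.Quotient.mk_eq_zero _).2 ((φ n).2 j).2

theorem length_quot_emb : Module.length A (L A a c ⧸ LinearMap.range (emb φ)) = c := by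
  have h1 : Module.length A (A ⧸ maximalIdeal A) = 1 := by
    rw [Module.length_eq_one_iff, isSimpleModule_iff_isCoatom]
    exact (maximalIdeal.isMaximal A).out
  have e1 := Submodule.quotEquivOfEq _ _ (ker_quo φ)
  have e2 := LinearMap.quotKerEquivOfSurjective (quo A a c) quo_surjective
  rw [(e1.symm.trans e2).length_eq, Module.length_pi]
  simp [h1]

section Hom

variable {I : Type u} [AddCommGroup I] [Module A I] (α : I →ₗ[A] A)
  (hα : LinearMap.range α = maximalIdeal A)

include hα in
theorem exists_homL (w : L A a c) (s : I) : ∃ n, emb φ n = α s • w :=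
  exists_emb φ (α s) (by rw [← hα]; exact ⟨s, rfl⟩) w

/-- `α(s) w` as an element of `N` -/
noncomputable def homF (w : L A a c) (s : I) : N := (exists_homL φ α hα w s).choose

theorem emb_homF (w : L A a c) (s : I) : emb φ (homF φ α hα w s) = α s • w :=
  (exists_homL φ α hα w s).choose_spec

/-- `w ↦ (s ↦ α(s) w)` -/
noncomputable def homL : L A a c →ₗ[A] (I →ₗ[A] N) :=
  LinearMap.mk₂ A (homF φ α hα)
    (fun w w' s => by
      apply emb_injective φ
      rw [map_add, emb_homF, emb_homF, emb_homF, smul_add])
    (fun r w s => by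
      apply emb_injective φ
      rw [map_smul, emb_homF, emb_homF, smul_comm])
    (fun w s s' => by
      apply emb_injective φ
      rw [map_add, emb_homF, emb_homF, emb_homF, map_add, add_smul])
    (fun r w s => by
      apply emb_injective φ
      rw [map_smul, emb_homF, emb_homF, map_smul, smul_assoc])

theorem emb_homL (w : L A a c) (s : I) : emb φ (homL φ α hα w s) = α s • w :=
  emb_homF φ α hα w s

theorem homL_injective (hA : ∀ a : A, (∀ r ∈ maximalIdeal A, r * a = 0) → a = 0) :
    Function.Injective (homL φ α hα) := by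
  rw [injective_iff_map_eq_zero]
  intro w hw
  have h1 : ∀ r ∈ maximalIdeal A, r • w = 0 := by
    intro r hr
    rw [← hα] at hr
    obtain ⟨s, rfl⟩ := hr
    rw [← emb_homL φ α hα w s, hw, LinearMap.zero_apply, map_zero]
  apply Prod.ext
  · funext i
    exact hA _ fun r hr => congrFun (congrArg Prod.fst (h1 r hr)) i
  · funext j
    exact hA _ fun r hr => congrFun (congrArg Prod.snd (h1 r hr)) j

variable {M : Type u} [AddCommGroup M] [Module A M] (ev : M →ₗ[A] (I →ₗ[A] N))

/-- the lattice -/
noncomputable def lat : Submodule A M := (LinearMap.range (homL φ α hα)).comap ev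

theorem mem_lat (θ : M) : θ ∈ lat φ α hα ev ↔ ∃ w, homL φ α hα w = ev θ := Iff.rfl

theorem ev_mem (u : N →ₗ[A] M) (hu : ∀ n s, ev (u n) s = α s • n) (n : N) :
    homL φ α hα (emb φ n) = ev (u n) := by
  ext s
  apply emb_injective φ
  rw [emb_homL, hu, map_smul]

theorem range_le_lat (u : N →ₗ[A] M) (hu : ∀ n s, ev (u n) s = α s • n) :
    LinearMap.range u ≤ lat φ α hα ev := by
  rintro _ ⟨n, rfl⟩
  exact ⟨emb φ n, ev_mem φ α hα ev u hu n⟩

theorem smul_mem_lat (hαi : Function.Injective α) (hev : Function.Injective ev) (u : N →ₗ[A] M)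
    (hu : ∀ n s, ev (u n) s = α s • n) (r : A) (hr : r ∈ maximalIdeal A) (θ : M) :
    r • θ ∈ lat φ α hα ev := by
  have hr' := hr
  rw [← hα] at hr'
  obtain ⟨ρ, hρ⟩ := hr'
  have h1 : r • θ = u (ev θ ρ) := by
    apply hev
    ext s
    rw [map_smul, LinearMap.smul_apply, hu, ← map_smul, ← map_smul]
    congr 1
    apply hαi
    rw [map_smul, map_smul, hρ, smul_eq_mul, smul_eq_mul, mul_comm]
  rw [h1]
  exact range_le_lat φ α hα ev u hu ⟨_, rfl⟩

/-- the lattice is free -/
theorem exists_equiv (hA : ∀ a : A, (∀ r ∈ maximalIdeal A, r * a = 0) → a = 0)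
    (hev : Function.Bijective ev) {G : Type u} [AddCommGroup G] [Module A G] (ι : G →ₗ[A] M)
    (hι : Function.Injective ι) (hιr : LinearMap.range ι = lat φ α hα ev) :
    ∃ E : G ≃ₗ[A] L A a c, ∀ g, homL φ α hα (E g) = ev (ι g) := by
  have hex : ∀ w : L A a c, ∃ g, ev (ι g) = homL φ α hα w := by
    intro w
    obtain ⟨θ, hθ⟩ := hev.2 (homL φ α hα w)
    have : θ ∈ LinearMap.range ι := by
      rw [hιr, mem_lat]
      exact ⟨w, hθ.symm⟩
    obtain ⟨g, rfl⟩ := this
    exact ⟨g, hθ⟩
  choose f hf using hex
  have hinj : Function.Injective (ev ∘ₗ ι) := hev.1.comp hι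
  let e : L A a c →ₗ[A] G :=
    { toFun := f
      map_add' := fun w w' => by
        apply hinj
        change ev (ι _) = ev (ι _)
        rw [hf, map_add, map_add, map_add, hf, hf]
      map_smul' := fun r w => by
        apply hinj
        change ev (ι _) = ev (ι _)
        rw [hf, map_smul, RingHom.id_apply, map_smul, map_smul, hf] }
  have he : Function.Bijective e := by
    constructor
    · intro w w' h
      apply homL_injective φ α hα hA
      rw [← hf w, ← hf w']
      exact congrArg (fun g => ev (ι g)) h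
    · intro g
      have : ι g ∈ lat φ α hα ev := by
        rw [← hιr]
        exact ⟨g, rfl⟩
      obtain ⟨w, hw⟩ := this
      refine ⟨w, ?_⟩
      apply hinj
      change ev (ι (f w)) = ev (ι g)
      rw [hf, hw]
  refine ⟨(LinearEquiv.ofBijective e he).symm, fun g => ?_⟩
  have h1 : e ((LinearEquiv.ofBijective e he).symm g) = g :=
    (LinearEquiv.ofBijective e he).apply_symm_apply g
  conv_rhs => rw [← h1]
  exact (hf _).symm

end Hom

end K977.LatAlg
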