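import Groth.Agent.TFNodal.K977.Lattice
import Groth.Agent.TFNodal.K977.LatAlg
import Groth.Agent.TFNodal.K977.UnitOn
import Groth.Agent.SDiv.K476.HomSh6
import Groth.Agent.Krr.H478.EpiIso
import Groth.Agent.Divis.StalkMod

/-!
# Modifications at finitely many closed points via `Hom(I, F)`
-/

set_option autoImplicit false
set_option linter.style.haveILetI false
universe u
open CategoryTheory CategoryTheory.Limits AlgebraicGeometry TopologicalSpace

namespace K977.HomLat

open Groth.Agent Groth.Agent.CycB.StalkExact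
open RefHull K476.HomSh1 K476.HomSh3 K476.HomSh6
open Groth.Agent.Fdesc.StructMod (stalkEquiv)

variable {X : Scheme.{u}}

/-- the ideal of finitely many closed points as a module -/
theorem exists_ideal [IsLocallyNoetherian X] (S : Set X) (hS : S.Finite)
    (hcl : ∀ x ∈ S, IsClosed ({x} : Set X)) :
    ∃ (I : X.Modules) (ι : I ⟶ Coh.structureModule X), Coh.IsCoh I ∧ Mono ι ∧
      (∀ x ∈ S, LinearMap.range ((stalkEquiv x).symm.toLinearMap ∘ₗ stalkLin ι x) =
        IsLocalRing.maximalIdeal (X.presheaf.stalk x)) ∧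
      (∀ x ∉ S, Function.Bijective ((stalkEquiv x).symm.toLinearMap ∘ₗ stalkLin ι x)) := by
  obtain ⟨I, ι, h1, h2, h3, h4, -⟩ := Lattice.exists_lattice (Coh.structureModule X)
    (Fdesc.StructMod.isCoh_structureModule X) S hS hcl
    (fun x => Submodule.map (stalkEquiv x).toLinearMap
      (IsLocalRing.maximalIdeal (X.presheaf.stalk x))) (by
        intro x hx r hr m
        obtain ⟨b, rfl⟩ := (stalkEquiv x).surjective m
        refine ⟨1, r * b, Ideal.mul_mem_right _ _ hr, ?_⟩
        rw [pow_one]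
        change stalkEquiv x (r • b) = _
        rw [map_smul])
  refine ⟨I, ι, h1, h2, fun x hx => ?_, fun x hx => ?_⟩
  · rw [LinearMap.range_comp, h3 x hx]
    ext a
    constructor
    · rintro ⟨_, ⟨b, hb, rfl⟩, rfl⟩
      change (stalkEquiv x).symm (stalkEquiv x b) ∈ _
      rw [LinearEquiv.symm_apply_apply]
      exact hb
    · intro ha
      exact ⟨stalkEquiv x a, ⟨a, ha, rfl⟩, (stalkEquiv x).symm_apply_apply a⟩
  · exact (stalkEquiv x).symm.bijective.comp (h4 x hx)

section

variable (I F : X.Modules) (ι : I ⟶ Coh.structureModule X)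

/-- the map `F → Hom(I, F)` -/
noncomputable def toHom (F : X.Modules) (ι : I ⟶ Coh.structureModule X) : F ⟶ homSh I F :=
  inv (evOne F) ≫ preComp ι F

theorem evalStalk_toHom (x : X) (n : F.presheaf.stalk x) (s : I.presheaf.stalk x) :
    evalStalk I F x (stalkLin (toHom I F ι) x n) s =
      ((stalkEquiv x).symm (stalkLin ι x s)) • n := by
  obtain ⟨θ, rfl⟩ : ∃ θ, stalkLin (evOne F) x θ = n :=
    (Dcoh.StalkMod.bijective_of_isIso (evOne F) x).2 n
  have h1 : stalkLin (inv (evOne F)) x (stalkLin (evOne F) x θ) = θ := by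
    rw [← LinearMap.comp_apply, ← stalkLin_comp, IsIso.hom_inv_id, stalkLin_id]
    rfl
  rw [toHom, stalkLin_comp, LinearMap.comp_apply, h1, ← stalkMapₗ_eq,
    evalStalk_stalkMapₗ_preComp, LinearMap.comp_apply, ← stalkMapₗ_eq, ← stalkMapₗ_eq,
    stalkMapₗ_evOne, ← map_smul, ← map_smul, smul_eq_mul, mul_one, LinearEquiv.apply_symm_apply]

end

theorem isFinLocFreeOfRank_of_stalk [IsLocallyNoetherian X] {M : X.Modules} (hM : Coh.IsCoh M)
    {r : ℕ} (h : ∀ x : X, Nontrivial (X.presheaf.stalk x) →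
      Nonempty (M.presheaf.stalk x ≃ₗ[X.presheaf.stalk x] (Fin r → X.presheaf.stalk x))) :
    FlatMod.IsFinLocFreeOfRank r M := by
  intro x
  obtain ⟨e⟩ := h x inferInstance
  obtain ⟨V, n, hxV, hn⟩ := Divis.StalkMod.exists_free_nhd hM x (Module.Free.of_equiv e.symm)
  obtain ⟨b, hb⟩ := Sga67.LocBasis.nonempty_restrict_iso_iff.mp hn
  obtain ⟨β, -⟩ := Krr.H487.LocBasisPull.exists_stalkBasis hb x hxV
  have h1 : Module.finrank (X.presheaf.stalk x) (M.presheaf.stalk x) = n := by
    rw [Module.finrank_eq_card_basis β, Fintype.card_fin]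
  rw [e.finrank_eq, Module.finrank_fin_fun] at h1
  subst h1
  exact ⟨V, hxV, hn⟩

/-- The locally free module containing a module of type `a`. -/
theorem exists_hull [IsLocallyNoetherian X] (S : Set X) (hS : S.Finite)
    (hcl : ∀ x ∈ S, IsClosed ({x} : Set X)) (F : X.Modules) (hF : Coh.IsCoh F) (r : ℕ) (a : X → ℕ)
    (hA : ∀ x ∈ S, ∀ b : X.presheaf.stalk x,
      (∀ r ∈ IsLocalRing.maximalIdeal (X.presheaf.stalk x), r * b = 0) → b = 0)
    (hfree : ∀ x ∉ S,
      Nonempty (F.presheaf.stalk x ≃ₗ[X.presheaf.stalk x] (Fin r → X.presheaf.stalk x)))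
    (htype : ∀ x ∈ S, a x ≤ r ∧ Nonempty (F.presheaf.stalk x ≃ₗ[X.presheaf.stalk x]
        ((Fin (a x) → X.presheaf.stalk x) ×
          (Fin (r - a x) → IsLocalRing.maximalIdeal (X.presheaf.stalk x))))) :
    ∃ (G : X.Modules) (j : F ⟶ G), FlatMod.IsFinLocFreeOfRank r G ∧ Mono j ∧
      (∀ x ∉ S, Function.Bijective (stalkLin j x)) ∧
      (∀ x ∈ S, ∃ (φ : F.presheaf.stalk x ≃ₗ[X.presheaf.stalk x]
        ((Fin (a x) → X.presheaf.stalk x) ×
          (Fin (r - a x) → IsLocalRing.maximalIdeal (X.presheaf.stalk x))))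
        (E : G.presheaf.stalk x ≃ₗ[X.presheaf.stalk x]
          LatAlg.L (X.presheaf.stalk x) (a x) (r - a x)),
        ∀ n, E (stalkLin j x n) = LatAlg.emb φ n) := by
  classical
  obtain ⟨I, ι, hI, hι, hIS, hIn⟩ := exists_ideal S hS hcl
  let α : ∀ x : X, I.presheaf.stalk x →ₗ[X.presheaf.stalk x] X.presheaf.stalk x := fun x =>
    (stalkEquiv x).symm.toLinearMap ∘ₗ stalkLin ι x
  have hαi : ∀ x, Function.Injective (α x) := fun x =>
    (stalkEquiv x).symm.injective.comp (stalkLin_injective ι x)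
  let u : F ⟶ homSh I F := toHom I F ι
  have hev : ∀ x, Function.Bijective (evalStalk I F x) := fun x =>
    evalStalk_bijective_of_isCoh I F hI x
  have hu : ∀ x n s, evalStalk I F x (stalkLin u x n) s = α x s • n := fun x n s =>
    evalStalk_toHom I F ι x n s
  choose! har φ' using htype
  let φ := fun (x : X) (hx : x ∈ S) => (φ' x hx).some
  let N : ∀ x : X, Submodule (X.presheaf.stalk x) ((homSh I F).presheaf.stalk x) := fun x =>
    if hx : x ∈ S then LatAlg.lat (φ x hx) (α x) (hIS x hx) (evalStalk I F x) else ⊤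
  have hN : ∀ (x : X) (hx : x ∈ S),
      N x = LatAlg.lat (φ x hx) (α x) (hIS x hx) (evalStalk I F x) := fun x hx => dif_pos hx
  obtain ⟨G, i, hG, hi, hGS, hGn, hlift⟩ := Lattice.exists_lattice (homSh I F)
    (isCoh_homSh hI hF) S hS hcl N (by
      intro x hx r hr m
      refine ⟨1, ?_⟩
      rw [pow_one, hN x hx]
      exact LatAlg.smul_mem_lat (φ x hx) (α x) (hIS x hx) (evalStalk I F x) (hαi x) (hev x).1
        (stalkLin u x) (hu x) r hr m)
  obtain ⟨j, hj⟩ := hlift F u (by
    intro x hx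
    rw [hN x hx]
    exact LatAlg.range_le_lat (φ x hx) (α x) (hIS x hx) (evalStalk I F x) (stalkLin u x) (hu x))
  have hji : ∀ x n, stalkLin i x (stalkLin j x n) = stalkLin u x n := fun x n => by
    rw [← LinearMap.comp_apply, ← stalkLin_comp, hj]
  have hEx : ∀ (x : X) (hx : x ∈ S), ∃ (E : G.presheaf.stalk x ≃ₗ[X.presheaf.stalk x]
      LatAlg.L (X.presheaf.stalk x) (a x) (r - a x)),
        ∀ n, E (stalkLin j x n) = LatAlg.emb (φ x hx) n := by
    intro x hx
    obtain ⟨E, hE⟩ := LatAlg.exists_equiv (φ x hx) (α x) (hIS x hx) (evalStalk I F x) (hA x hx)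
      (hev x) (stalkLin i x) (stalkLin_injective i x) ((hGS x hx).trans (hN x hx))
    refine ⟨E, fun n => ?_⟩
    apply LatAlg.homL_injective (φ x hx) (α x) (hIS x hx) (hA x hx)
    rw [hE, hji, LatAlg.ev_mem (φ x hx) (α x) (hIS x hx) (evalStalk I F x) (stalkLin u x) (hu x)]
  have hub : ∀ x ∉ S, Function.Bijective (stalkLin u x) := by
    intro x hx
    have hα : Function.Bijective (α x) := hIn x hx
    obtain ⟨s₁, hs₁⟩ := hα.2 1
    constructor
    · rw [injective_iff_map_eq_zero]
      intro n hn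
      have h1 := hu x n s₁
      rw [hn, map_zero, LinearMap.zero_apply, hs₁, one_smul] at h1
      exact h1.symm
    · intro θ
      refine ⟨evalStalk I F x θ s₁, ?_⟩
      apply (hev x).1
      ext s
      rw [hu, ← map_smul]
      congr 1
      apply hα.1
      rw [map_smul, hs₁, smul_eq_mul, mul_one]
  have hjb : ∀ x ∉ S, Function.Bijective (stalkLin j x) := by
    intro x hx
    have h1 : Function.Bijective (stalkLin i x ∘ stalkLin j x) := by
      have : (stalkLin i x ∘ stalkLin j x) = stalkLin u x := funext (hji x)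
      rw [this]
      exact hub x hx
    exact ((hGn x hx).of_comp_iff' _).1 h1
  refine ⟨G, j, ?_, ?_, hjb, fun x hx => ⟨φ x hx, hEx x hx⟩⟩
  · apply isFinLocFreeOfRank_of_stalk hG
    intro x _
    by_cases hx : x ∈ S
    · obtain ⟨E, -⟩ := hEx x hx
      have hr : a x + (r - a x) = r := by
        have := har x hx
        omega
      refine ⟨E.trans ((LinearEquiv.sumArrowLequivProdArrow _ _ _ _).symm.trans
        (LinearEquiv.funCongrLeft _ _ ((finCongr hr).symm.trans finSumFinEquiv.symm)))⟩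
    · obtain ⟨e⟩ := hfree x hx
      exact ⟨(LinearEquiv.ofBijective _ (hjb x hx)).symm.trans e⟩
  · apply Dcoh.StalkMod.mono_of_injective
    intro x
    by_cases hx : x ∈ S
    · obtain ⟨E, hE⟩ := hEx x hx
      intro n n' h
      apply LatAlg.emb_injective (φ x hx)
      rw [← hE, ← hE, h]
    · exact (hjb x hx).1

end K977.HomLat
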