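import Groth.Agent.TFNodal.K977.Generic
import Groth.Agent.TFNodal.K977.UnitOn
import Groth.Agent.CycB.PushStalk
import Groth.Agent.EGA2.K38.DirImg

/-!
# Torsion in direct images under finite morphisms
-/

set_option autoImplicit false
set_option linter.style.haveILetI false
universe u
open CategoryTheory CategoryTheory.Limits AlgebraicGeometry TopologicalSpace
open scoped TensorProduct

namespace K977.TorsPush

open Groth.Agent Groth.Agent.CycB.StalkExact Groth.Agent.CycB.PushStalk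

variable {X Y : Scheme.{u}} (π : Y ⟶ X)

theorem exists_map_eq_zero (hcl : IsClosedMap π) (E : Y.Modules) (x : X) (V : X.Opens)
    (hx : x ∈ V) (t : Γ(E, π ⁻¹ᵁ V))
    (h : ∀ (y : Y) (hy : y ∈ π ⁻¹ᵁ V), π y = x → E.presheaf.germ (π ⁻¹ᵁ V) y hy t = 0) :
    ∃ (V' : X.Opens) (_ : x ∈ V') (hle : V' ≤ V),
      E.presheaf.map (homOfLE (π.preimage_mono hle)).op t = 0 := by
  let S : Set Y := {y | ∃ (O : Y.Opens) (_ : y ∈ O) (i : O ≤ π ⁻¹ᵁ V),
    E.presheaf.map (homOfLE i).op t = 0}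
  have hS : IsOpen S := by
    rw [isOpen_iff_forall_mem_open]
    rintro y ⟨O, hyO, i, h0⟩
    exact ⟨O, fun z hz => ⟨O, hz, i, h0⟩, O.2, hyO⟩
  let V' : X.Opens := V ⊓ ⟨(π '' Sᶜ)ᶜ, (hcl _ hS.isClosed_compl).isOpen_compl⟩
  have hxV' : x ∈ V' := by
    refine ⟨hx, ?_⟩
    rintro ⟨y, hyS, hyx⟩
    apply hyS
    have hyV : y ∈ π ⁻¹ᵁ V := by
      change π y ∈ V
      rw [hyx]
      exact hx
    have h1 := h y hyV hyx
    rw [← map_zero (E.presheaf.germ (π ⁻¹ᵁ V) y hyV).hom] at h1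
    obtain ⟨O, hyO, i, i', he⟩ := TopCat.Presheaf.germ_eq _ y hyV hyV _ _ h1
    refine ⟨O, hyO, i.le, ?_⟩
    rw [map_zero] at he
    exact he
  have hle : V' ≤ V := inf_le_left
  refine ⟨V', hxV', hle, ?_⟩
  apply TopCat.Presheaf.section_ext (⟨E.presheaf, E.isSheaf⟩ : TopCat.Sheaf Ab Y) (π ⁻¹ᵁ V')
  intro y hy
  have hyS : y ∈ S := by
    by_contra hyS
    exact hy.2 ⟨y, hyS, rfl⟩
  obtain ⟨O, hyO, i, h0⟩ := hyS
  have h1 : E.presheaf.germ (π ⁻¹ᵁ V') y hy
      (E.presheaf.map (homOfLE (π.preimage_mono hle)).op t) = 0 := by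
    rw [TopCat.Presheaf.germ_res_apply,
      ← TopCat.Presheaf.germ_res_apply E.presheaf (homOfLE i) y hyO, h0, map_zero]
  exact h1.trans (map_zero (E.presheaf.germ (π ⁻¹ᵁ V') y hy).hom).symm

/-- a section of a direct image vanishing at all points of the fibre has zero germ -/
theorem germ_eq_zero_of_fibre (hcl : IsClosedMap π) (E : Y.Modules) (x : X) (V : X.Opens)
    (hx : x ∈ V) (t : Γ((Scheme.Modules.pushforward π).obj E, V))
    (h : ∀ (y : Y) (hy : y ∈ π ⁻¹ᵁ V), π y = x → E.presheaf.germ (π ⁻¹ᵁ V) y hy t = 0) :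
    ((Scheme.Modules.pushforward π).obj E).presheaf.germ V x hx t = 0 := by
  obtain ⟨V', hxV', hle, h2⟩ := exists_map_eq_zero π hcl E x V hx t h
  have h3 := TopCat.Presheaf.germ_res_apply ((Scheme.Modules.pushforward π).obj E).presheaf
    (homOfLE hle) x hxV' t
  rw [← h3]
  have h4 : ((Scheme.Modules.pushforward π).obj E).presheaf.map (homOfLE hle).op t = 0 := h2
  rw [h4, map_zero]

/-- nothing in `(π_* E)_x` is killed by the maximal ideal -/
theorem eq_zero_of_smul (hcl : IsClosedMap π) (E : Y.Modules) (hE : TorSh.IsTorsionFree E) (x : X)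
    (hd : ∀ y : Y, π y = x → IsDomain (Y.presheaf.stalk y))
    (hs : ∀ y : Y, π y = x → ∃ s ∈ IsLocalRing.maximalIdeal (X.presheaf.stalk (π y)),
      (π.stalkMap y).hom s ≠ 0)
    (e : ((Scheme.Modules.pushforward π).obj E).presheaf.stalk x)
    (he : ∀ s ∈ IsLocalRing.maximalIdeal (X.presheaf.stalk x), s • e = 0) : e = 0 := by
  obtain ⟨V, hx, t, rfl⟩ := ((Scheme.Modules.pushforward π).obj E).presheaf.exists_germ_eq e
  apply germ_eq_zero_of_fibre π hcl
  intro y hy hyx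
  subst hyx
  obtain ⟨s, hs1, hs2⟩ := hs y rfl
  haveI := hd y rfl
  haveI := hE y
  have h1 := congrArg (pushStalk π E y) (he s hs1)
  rw [map_smulₛₗ, map_zero, pushStalk_germ] at h1
  have h2 : IsRegular ((π.stalkMap y).hom s) := IsRegular.of_ne_zero hs2
  exact Module.IsTorsionFree.isSMulRegular h2 (h1.trans (smul_zero _).symm)

theorem exists_stalkMap_ne_zero [IsLocallyNoetherian Y] [AlgebraicGeometry.IsReduced Y]
    (U : X.Opens) (hUd : Dense ((π ⁻¹ᵁ U : Y.Opens) : Set Y)) (y : Y) (hy : π y ∉ U)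
    (hd : IsDomain (Y.presheaf.stalk y)) :
    ∃ s ∈ IsLocalRing.maximalIdeal (X.presheaf.stalk (π y)), (π.stalkMap y).hom s ≠ 0 := by
  obtain ⟨η, hη, hker⟩ := CycB.LocQuot.exists_eq_ker (⊥ : Ideal (Y.presheaf.stalk y))
  have hfield : IsField (Y.presheaf.stalk η) :=
    TFGeneric.isField_of_minimal hη (by
      rw [← hker]
      exact ⟨⟨Ideal.isPrime_bot, bot_le⟩, fun _ _ _ => bot_le⟩)
  have hηU : π η ∈ U := TFGeneric.mem_of_dense (π ⁻¹ᵁ U) hUd η hfield
  have hsp : π η ⤳ π y := hη.map π.continuous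
  by_contra hcon
  push Not at hcon
  apply hy
  have key : π η = π y := by
    rw [← CycB.LocQuot.primeOf_inj hsp (specializes_refl (π y)), CycB.LocQuot.primeOf_refl]
    apply PrimeSpectrum.ext
    rw [CycB.LocQuot.primeOf_asIdeal]
    apply le_antisymm
    · exact IsLocalRing.le_maximalIdeal (CycB.LocQuot.ker_isPrime hsp).ne_top
    · intro s hs
      rw [CycB.LocQuot.mem_ker_specMap_iff]
      intro hu
      have h1 := Scheme.Hom.stalkSpecializes_stalkMap_apply π η y hη s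
      have h2 : (π.stalkMap y) s = 0 := hcon s hs
      rw [h2, map_zero] at h1
      have h3 : IsUnit ((π.stalkMap η).hom ((X.presheaf.stalkSpecializes hsp).hom s)) :=
        hu.map _
      have h4 : (π.stalkMap η).hom ((X.presheaf.stalkSpecializes hsp).hom s) = 0 := h1
      rw [h4] at h3
      exact not_isUnit_zero h3
  rw [← key]
  exact hηU

end K977.TorsPush
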