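import Groth.Agent.TFNodal.K977.SubAlg
import Groth.Agent.TFNodal.K977.HomLat
import Groth.Agent.TFNodal.K977.NodeNorm
import Groth.Agent.TFNodal.K977.TorsPush
import Groth.Agent.TFNodal.K977.NodeLen
import Groth.Agent.FormalA.PullbackQC
import Groth.Agent.PerfA.CohSerre

/-!
# The cut of `π^* G` at one branch over each node
-/

set_option autoImplicit false
set_option linter.style.haveILetI false
set_option linter.unusedSectionVars false
universe u
open CategoryTheory CategoryTheory.Limits AlgebraicGeometry TopologicalSpace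
open scoped TensorProduct

namespace K977.SubE

open Groth.Agent Groth.Agent.CycB.StalkExact Groth.Agent.CycB.PushStalk
open Groth.Agent.Fdesc.PullbackStalk

section Gen

variable {X Y : Scheme.{u}}

/-- sections of `π_* M` which are in `π_* E` near `x` -/
theorem mem_range_push (π : Y ⟶ X) (hcl : IsClosedMap π) {E M : Y.Modules} (ι : E ⟶ M) [Mono ι]
    (x : X) (V : X.Opens) (hx : x ∈ V) (t : Γ((Scheme.Modules.pushforward π).obj M, V))
    (h : ∀ (y : Y) (hy : y ∈ π ⁻¹ᵁ V), π y = x →
      M.presheaf.germ (π ⁻¹ᵁ V) y hy t ∈ LinearMap.range (stalkLin ι y)) :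
    ((Scheme.Modules.pushforward π).obj M).presheaf.germ V x hx t ∈
      LinearMap.range (stalkLin ((Scheme.Modules.pushforward π).map ι) x) := by
  let c := cokernel.π ι
  have hex : (ShortComplex.mk ι c (cokernel.condition ι)).Exact := ShortComplex.exact_cokernel ι
  have hex2 := hex.map_of_mono_of_preservesKernel (Scheme.Modules.pushforward π)
    (inferInstance) inferInstance
  have h1 := stalkLin_exact _ hex2 x
  have h2 : stalkLin ((Scheme.Modules.pushforward π).map c) x
      (((Scheme.Modules.pushforward π).obj M).presheaf.germ V x hx t) = 0 := by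
    rw [stalkLin_germ]
    apply TorsPush.germ_eq_zero_of_fibre π hcl
    intro y hy hyx
    obtain ⟨e, he⟩ := h y hy hyx
    have h3 := stalkLin_germ (U := π ⁻¹ᵁ V) c y hy t
    refine h3.symm.trans ?_
    rw [← he, ← LinearMap.comp_apply, ← stalkLin_comp, cokernel.condition]
    exact TFNorm.stalkLin_zero y _
  exact (h1 _).1 h2

theorem injective_pushMap (π : Y ⟶ X) {E M : Y.Modules} (ι : E ⟶ M) [Mono ι] (x : X) :
    Function.Injective (stalkLin ((Scheme.Modules.pushforward π).map ι) x) :=
  stalkLin_injective _ x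

/-- `(π_* π^* G)_{π y} → (π^* G)_y` on the image of the unit -/
theorem pushStalk_unit (π : Y ⟶ X) (G : X.Modules) (y : Y) (g : G.presheaf.stalk (π y)) :
    pushStalk π ((Scheme.Modules.pullback π).obj G) y
      (stalkLin ((Scheme.Modules.pullbackPushforwardAdjunction π).unit.app G) (π y) g) =
      canAdd π G y g := by
  obtain ⟨V, hV, s, rfl⟩ := G.presheaf.exists_germ_eq g
  have h1 := stalkLin_germ ((Scheme.Modules.pullbackPushforwardAdjunction π).unit.app G) (π y) hV s
  refine (congrArg (pushStalk π _ y) h1).trans ?_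
  refine (pushStalk_germ π _ y V hV _).trans ?_
  exact (canAdd_germ π G y V hV s).symm

end Gen

section Main

variable (k : Type u) [Field k] [IsAlgClosed k]
    (X : Scheme.{u}) [X.Over (Spec (CommRingCat.of k))]
    [LocallyOfFiniteType (X ↘ Spec (CommRingCat.of k))]
    [QuasiCompact (X ↘ Spec (CommRingCat.of k))]
    (hdim : topologicalKrullDim X ≤ 1) (hnod : Curv2.AtWorstNodal k X)
    (Y : Scheme.{u}) (π : Y ⟶ X) [AlgebraicGeometry.IsFinite π]
    [Smooth (π ≫ (X ↘ Spec (CommRingCat.of k)))]
    (U : X.Opens) (hU : ∀ x : X, x ∈ U ↔ ¬ Curv2.IsNode k X x) (hUiso : IsIso (π ∣_ U))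
    (hUd : Dense ((π ⁻¹ᵁ U : Y.Opens) : Set Y))

include hdim hnod hU hUiso hUd

theorem surjective : Function.Surjective π := by
  have hNX : IsLocallyNoetherian X :=
    LocallyOfFiniteType.isLocallyNoetherian (X ↘ Spec (CommRingCat.of k))
  have hR := NodeNorm.isReduced k X hnod
  have hUX : Dense (U : Set X) := NodeBlock.dense_of_generic U fun ξ hξ => by
    rw [hU]
    exact fun h => NodeNorm.not_isField k X h hξ
  have hdom := Models.H58.NodalGlueGeo.isDominant π U hUX
  intro x
  have h1 : IsClosed (Set.range π) := π.isClosedMap.isClosed_range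
  have h2 : Set.range π = Set.univ := by
    rw [← h1.closure_eq]
    exact hdom.denseRange.closure_eq
  have : x ∈ Set.range π := h2 ▸ Set.mem_univ x
  exact this

theorem isClosed_of_node (y : Y) (hy : Curv2.IsNode k X (π y)) : IsClosed ({y} : Set Y) := by
  have hN' : IsNoetherian Y :=
    Models.H58.NodalGlueGeo.isNoetherian (π ≫ (X ↘ Spec (CommRingCat.of k)))
  refine Models.H58.NodalGlueGeo.isClosed_of_notMem
    ((EtpbcA.CharPDim.dim_le_of_isIntegralHom π).trans hdim) (π ⁻¹ᵁ U) hUd y ?_
  intro hyU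
  exact (hU _).1 hyU hy

theorem dvr_of_node (y : Y) (hy : Curv2.IsNode k X (π y)) :
    ∃ (_ : IsDomain (Y.presheaf.stalk y)), IsDiscreteValuationRing (Y.presheaf.stalk y) :=
  Models.H58.NodalGlueGeo.dvr_stalk (X ↘ Spec (CommRingCat.of k)) π hdim U hUd y
    fun hyU => (hU _).1 hyU hy

omit hdim hnod hU hUiso hUd in
theorem killed (r : ℕ) (F G : X.Modules) (j : F ⟶ G) (a : X → ℕ) (x : X)
    (hE : ∃ (φ : F.presheaf.stalk x ≃ₗ[X.presheaf.stalk x]
        ((Fin (a x) → X.presheaf.stalk x) ×
          (Fin (r - a x) → IsLocalRing.maximalIdeal (X.presheaf.stalk x))))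
        (E : G.presheaf.stalk x ≃ₗ[X.presheaf.stalk x]
          LatAlg.L (X.presheaf.stalk x) (a x) (r - a x)),
        ∀ n, E (stalkLin j x n) = LatAlg.emb φ n)
    (s : X.presheaf.stalk x) (hs : s ∈ IsLocalRing.maximalIdeal (X.presheaf.stalk x))
    (t : (cokernel j).presheaf.stalk x) : s • t = 0 := by
  obtain ⟨φ, E, hφ⟩ := hE
  obtain ⟨g, rfl⟩ := stalkLin_surjective (cokernel.π j) x t
  obtain ⟨n, hn⟩ := LatAlg.exists_emb φ s hs (E g)
  have h1 : s • g = stalkLin j x n := by
    apply E.injective
    rw [map_smul, hφ, hn]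
  rw [← map_smul, h1, ← LinearMap.comp_apply, ← stalkLin_comp, cokernel.condition]
  exact TFNorm.stalkLin_zero x _

/-- **The cut of `π^* G` at one branch over each node.** -/
theorem exists_sub (r : ℕ) (F : X.Modules) (a : X → ℕ)
    (G : X.Modules) (j : F ⟶ G) (hG : FlatMod.IsFinLocFreeOfRank r G) (hj : Mono j)
    (hjb : ∀ x ∉ {x : X | Curv2.IsNode k X x}, Function.Bijective (stalkLin j x))
    (hE : ∀ x ∈ {x : X | Curv2.IsNode k X x},
      ∃ (φ : F.presheaf.stalk x ≃ₗ[X.presheaf.stalk x]
        ((Fin (a x) → X.presheaf.stalk x) ×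
          (Fin (r - a x) → IsLocalRing.maximalIdeal (X.presheaf.stalk x))))
        (E : G.presheaf.stalk x ≃ₗ[X.presheaf.stalk x]
          LatAlg.L (X.presheaf.stalk x) (a x) (r - a x)),
        ∀ n, E (stalkLin j x n) = LatAlg.emb φ n) :
    ∃ (E : Y.Modules) (i : E ⟶ (Scheme.Modules.pullback π).obj G)
      (η : F ⟶ (Scheme.Modules.pushforward π).obj E),
      FlatMod.IsFinLocFreeOfRank r E ∧ Mono i ∧
      η ≫ (Scheme.Modules.pushforward π).map i =
        j ≫ (Scheme.Modules.pullbackPushforwardAdjunction π).unit.app G ∧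
      (∀ x : X, ¬ Curv2.IsNode k X x → Function.Bijective (stalkLin η x)) ∧
      (∀ x : X, Curv2.IsNode k X x →
        Module.length (X.presheaf.stalk x) ((cokernel η).presheaf.stalk x) = (r : ℕ∞)) := by
  have hNX : IsLocallyNoetherian X :=
    LocallyOfFiniteType.isLocallyNoetherian (X ↘ Spec (CommRingCat.of k))
  have hNX' : IsNoetherian X :=
    Models.H58.NodalGlueGeo.isNoetherian (X ↘ Spec (CommRingCat.of k))
  have hNY : IsLocallyNoetherian Y := LocallyOfFiniteType.isLocallyNoetherian π
  have hGc : Coh.IsCoh G := PerfA.CohSerre.isCoh_of_isFinLocFree fun x => by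
    obtain ⟨W, hW, e⟩ := hG x
    exact ⟨W, r, hW, e⟩
  let S : Set X := {x | Curv2.IsNode k X x}
  have hScl : IsClosed S := by
    have : S = (U : Set X)ᶜ := by
      ext x
      exact ⟨fun h h' => (hU x).1 h' h, fun h => not_not.1 fun h' => h ((hU x).2 h')⟩
    rw [this]
    exact U.2.isClosed_compl
  have hSf : S.Finite := Models.H58.NodalGlueGeo.finite_of_isClosed_singleton hScl
    fun x hx => hx.1
  choose pick hpick using surjective k X hdim hnod Y π U hU hUiso hUd
  let S2 : Set Y := pick '' S
  have hS2 : S2.Finite := hSf.image _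
  have hnode : ∀ y ∈ S2, Curv2.IsNode k X (π y) := by
    rintro _ ⟨x, hx, rfl⟩
    rw [hpick]
    exact hx
  have huniq : ∀ y ∈ S2, ∀ y', π y' = π y → y' ∈ S2 → y' = y := by
    rintro _ ⟨x, hx, rfl⟩ _ h ⟨x', hx', rfl⟩
    rw [hpick, hpick] at h
    rw [h]
  have hcl2 : ∀ y ∈ S2, IsClosed ({y} : Set Y) := fun y hy =>
    isClosed_of_node k X hdim hnod Y π U hU hUiso hUd y (hnode y hy)
  let M := (Scheme.Modules.pullback π).obj G
  have hM : Coh.IsCoh M := FormalA.PullbackQC.isCoh_pullback π G hGc
  let T := cokernel j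
  let q : M ⟶ (Scheme.Modules.pullback π).obj T := (Scheme.Modules.pullback π).map (cokernel.π j)
  let N : ∀ y : Y, Submodule (Y.presheaf.stalk y) (M.presheaf.stalk y) := fun y =>
    (IsLocalRing.maximalIdeal (Y.presheaf.stalk y) • (⊤ : Submodule (Y.presheaf.stalk y)
      (((Scheme.Modules.pullback π).obj T).presheaf.stalk y))).comap (stalkLin q y)
  have hmemN : ∀ (y : Y) (θ : M.presheaf.stalk y), θ ∈ N y ↔ stalkLin q y θ ∈
      (IsLocalRing.maximalIdeal (Y.presheaf.stalk y) • (⊤ : Submodule (Y.presheaf.stalk y)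
      (((Scheme.Modules.pullback π).obj T).presheaf.stalk y))) := fun y θ => Iff.rfl
  have hN : ∀ (y : Y), ∀ s ∈ IsLocalRing.maximalIdeal (Y.presheaf.stalk y),
      ∀ m : M.presheaf.stalk y, s • m ∈ N y := by
    intro y s hs m
    rw [hmemN, map_smul]
    exact Submodule.smul_mem_smul hs trivial
  obtain ⟨E, i, hEc, hi, hiN, hib, hlift⟩ := Lattice.exists_lattice M hM S2 hS2 hcl2 N
    (fun y _ s hs m => ⟨1, by rw [pow_one]; exact hN y s hs m⟩)
  have hErank : FlatMod.IsFinLocFreeOfRank r E := by
    apply HomLat.isFinLocFreeOfRank_of_stalk hEc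
    intro y _
    obtain ⟨e⟩ := TFNorm.exists_equiv_pullback π G y (TFNorm.exists_equiv_of_rank hG (π y))
    by_cases hy : y ∈ S2
    · obtain ⟨h1, h2⟩ := dvr_of_node k X hdim hnod Y π U hU hUiso hUd y (hnode y hy)
      obtain ⟨t, ht⟩ := IsDiscreteValuationRing.exists_irreducible (Y.presheaf.stalk y)
      obtain ⟨e'⟩ := SubAlg.exists_equiv_of_smul_mem e (N y) t ht.ne_zero
        (hN y t (by rw [ht.maximalIdeal_eq]; exact Ideal.mem_span_singleton_self t))
      have e1 := LinearEquiv.ofInjective (stalkLin i y) (stalkLin_injective i y)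
      exact ⟨e1.trans ((LinearEquiv.ofEq _ _ (hiN y hy)).trans e')⟩
    · exact ⟨(LinearEquiv.ofBijective (stalkLin i y) (hib y hy)).trans e⟩
  obtain ⟨g, hg⟩ := hlift ((Scheme.Modules.pullback π).obj F) ((Scheme.Modules.pullback π).map j) (by
    rintro y hy _ ⟨m, rfl⟩
    rw [hmemN, ← LinearMap.comp_apply, ← stalkLin_comp, ← Functor.map_comp, cokernel.condition,
      Functor.map_zero, TFNorm.stalkLin_zero]
    exact Submodule.zero_mem _)
  let η : F ⟶ (Scheme.Modules.pushforward π).obj E :=
    (Scheme.Modules.pullbackPushforwardAdjunction π).unit.app F ≫ (Scheme.Modules.pushforward π).map g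
  have hη : η ≫ (Scheme.Modules.pushforward π).map i =
      j ≫ (Scheme.Modules.pullbackPushforwardAdjunction π).unit.app G := by
    rw [Category.assoc, ← Functor.map_comp, hg]
    exact ((Scheme.Modules.pullbackPushforwardAdjunction π).unit.naturality j).symm
  have hηx : ∀ (x : X) (n : F.presheaf.stalk x),
      stalkLin ((Scheme.Modules.pushforward π).map i) x (stalkLin η x n) =
        stalkLin ((Scheme.Modules.pullbackPushforwardAdjunction π).unit.app G) x (stalkLin j x n) := by
    intro x n
    have := congrArg (fun φ => stalkLin φ x n) hη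
    simp only [stalkLin_comp, LinearMap.comp_apply] at this
    exact this
  refine ⟨E, i, η, hErank, hi, hη, ?_, ?_⟩
  · intro x hx
    have h1 := UnitOn.unit_bijective π G hGc.1 U hUiso x ((hU x).2 hx)
    have h2 := hjb x hx
    have h3 := injective_pushMap π i x
    refine ⟨fun n n' hnn => ?_, fun e => ?_⟩
    · apply (h1.comp h2).1
      change stalkLin _ x (stalkLin j x n) = stalkLin _ x (stalkLin j x n')
      rw [← hηx, ← hηx, hnn]
    · obtain ⟨n, hn⟩ := (h1.comp h2).2 (stalkLin ((Scheme.Modules.pushforward π).map i) x e)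
      exact ⟨n, h3 ((hηx x n).trans hn)⟩
  · intro x hx
    obtain ⟨y0, hy0, rfl⟩ : ∃ y0 ∈ S2, π y0 = x := ⟨pick x, ⟨x, hx, rfl⟩, hpick x⟩
    have hres : ∀ a : Y.presheaf.stalk y0, ∃ b : X.presheaf.stalk (π y0),
        a - π.stalkMap y0 b ∈ IsLocalRing.maximalIdeal (Y.presheaf.stalk y0) := fun a =>
      SubAlg.exists_res π (X ↘ Spec (CommRingCat.of k)) y0 (hcl2 y0 hy0) a
    have hqc : ∀ g : G.presheaf.stalk (π y0), stalkLin q y0 (canAdd π G y0 g) =
        canAdd π T y0 (stalkLin (cokernel.π j) (π y0) g) := fun g =>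
      stalkMap_pullback_canAdd π (cokernel.π j) y0 g
    let ie := stalkLin ((Scheme.Modules.pushforward π).map i) (π y0)
    let un : G.presheaf.stalk (π y0) →ₗ[X.presheaf.stalk (π y0)]
        ((Scheme.Modules.pushforward π).obj M).presheaf.stalk (π y0) :=
      stalkLin ((Scheme.Modules.pullbackPushforwardAdjunction π).unit.app G) (π y0)
    have hie : Function.Injective ie := injective_pushMap π i (π y0)
    let ψ : ((Scheme.Modules.pushforward π).obj E).presheaf.stalk (π y0) →ₗ[X.presheaf.stalk (π y0)]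
        (((Scheme.Modules.pushforward π).obj M).presheaf.stalk (π y0) ⧸ LinearMap.range un) :=
      (LinearMap.range un).mkQ ∘ₗ ie
    have hψk : LinearMap.ker ψ = LinearMap.range (stalkLin η (π y0)) := by
      ext e
      rw [LinearMap.mem_ker]
      constructor
      · intro he
        obtain ⟨g, hg⟩ : ie e ∈ LinearMap.range un := (Submodule.Quotient.mk_eq_zero _).1 he
        have h1 : canAdd π G y0 g ∈ N y0 := by
          rw [← pushStalk_unit]
          change pushStalk π M y0 (un g) ∈ N y0
          rw [hg]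
          have h2 := pushStalk_natural π i y0 e
          change pushStalk π M y0 (ie e) = _ at h2
          rw [h2, ← hiN y0 hy0]
          exact ⟨_, rfl⟩
        rw [hmemN, hqc] at h1
        have h3 := SubAlg.canAdd_eq_zero π T y0
          (fun s hs t => killed X r F G j a (π y0) (hE (π y0) hx) s hs t) _ h1
        have h4 := stalkLin_exact (ShortComplex.mk j (cokernel.π j) (cokernel.condition j))
          (ShortComplex.exact_cokernel j) (π y0)
        obtain ⟨n, hn⟩ := (h4 g).1 h3
        refine ⟨n, hie ?_⟩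
        rw [← hg]
        exact (hηx (π y0) n).trans (congrArg un hn)
      · rintro ⟨n, rfl⟩
        refine (Submodule.Quotient.mk_eq_zero _).2 ?_
        exact ⟨stalkLin j (π y0) n, (hηx (π y0) n).symm⟩
    have hψs : Function.Surjective ψ := by
      intro zq
      obtain ⟨z, rfl⟩ := Submodule.Quotient.mk_surjective _ zq
      obtain ⟨t0, ht0⟩ := SubAlg.exists_sub_canAdd_mem π T y0 hres
        (stalkLin q y0 (pushStalk π M y0 z))
      obtain ⟨g, rfl⟩ := stalkLin_surjective (cokernel.π j) (π y0) t0
      have h1 : pushStalk π M y0 (z - un g) ∈ N y0 := by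
        rw [map_sub, hmemN, map_sub]
        have h2 : pushStalk π M y0 (un g) = canAdd π G y0 g := pushStalk_unit π G y0 g
        rw [h2, hqc]
        exact ht0
      obtain ⟨V, hV, t, ht⟩ :=
        ((Scheme.Modules.pushforward π).obj M).presheaf.exists_germ_eq (z - un g)
      have h3 := mem_range_push π π.isClosedMap i (π y0) V hV t (by
        intro y hy hyy
        by_cases hyS : y ∈ S2
        · have : y = y0 := huniq y0 hy0 y hyy hyS
          subst this
          rw [hiN y hyS]
          have h4 := pushStalk_germ π M y V hy t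
          rw [← h4, ht]
          exact h1
        · exact (hib y hyS).2 _)
      obtain ⟨e, he⟩ := h3
      refine ⟨e, ?_⟩
      refine (Submodule.Quotient.eq _).2 ?_
      refine ⟨-g, ?_⟩
      rw [map_neg]
      have h5 : ie e = z - un g := he.trans ht
      rw [h5]
      abel
    obtain ⟨B, i1, i2, i3, i4, hH, hlen, hB⟩ :=
      NodeNorm.exists_node_block k X hdim hnod Y π U hU hUiso hUd (π y0) hx
    obtain ⟨e, he⟩ := hB G hGc.1
    obtain ⟨φ0⟩ := TFNorm.exists_equiv_of_rank hG (π y0)
    let φ : G.presheaf.stalk (π y0) ≃ₗ[X.presheaf.stalk (π y0)]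
        ((Fin r → X.presheaf.stalk (π y0)) ×
          (Fin 0 → IsLocalRing.maximalIdeal (X.presheaf.stalk (π y0)))) :=
      φ0.trans (LinearEquiv.prodUnique (R := X.presheaf.stalk (π y0))).symm
    have hlm := NodeLen.length_eq_two (NodeNorm.nodeLike k X hx)
    have key : un = e.toLinearMap ∘ₗ TypeAlg.inc (X.presheaf.stalk (π y0)) B
        (G.presheaf.stalk (π y0)) := by
      ext n
      exact (he n).symm
    have h1 := TypeAlg.length_coker_inc hH φ hlen hlm
    have e1 := Submodule.Quotient.equiv
      (LinearMap.range (TypeAlg.inc (X.presheaf.stalk (π y0)) B (G.presheaf.stalk (π y0))))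
      (LinearMap.range un) e (by rw [key, LinearMap.range_comp])
    have e2 := LinearMap.quotKerEquivOfSurjective ψ hψs
    have e3 := Submodule.quotEquivOfEq _ _ hψk
    rw [UnitOn.length_coker, ← e3.length_eq, e2.length_eq, ← e1.length_eq, h1]
    simp

end Main

end K977.SubE
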