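import Groth.Agent.CycB.MSky
import Groth.Agent.Ega3B.DevQC
import Groth.Agent.Dcoh.StalkMod

/-!
# Submodules of a coherent module prescribed at finitely many closed points
-/

set_option autoImplicit false
set_option linter.style.haveILetI false
universe u
open CategoryTheory CategoryTheory.Limits AlgebraicGeometry TopologicalSpace

namespace K977.Lattice

open Groth.Agent Groth.Agent.CycB.StalkExact Groth.Agent.CycB.MSky

variable {X : Scheme.{u}}

theorem exists_open_of_mem {S : Set X} (hS : S.Finite) (hcl : ∀ x ∈ S, IsClosed ({x} : Set X))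
    (x : X) : ∃ U : X.Opens, x ∈ U ∧ ∀ y ∈ S, y ∈ U → y = x := by
  have h1 : IsClosed (S \ {x}) := by
    have h2 : S \ {x} = ⋃ y ∈ S \ {x}, {y} := by
      ext z
      simp
    rw [h2]
    exact (hS.subset Set.sdiff_subset).isClosed_biUnion fun y hy => hcl y hy.1
  refine ⟨⟨(S \ {x})ᶜ, h1.isOpen_compl⟩, fun h => h.2 rfl, fun y hy hyU => ?_⟩
  by_contra hne
  exact hyU ⟨hy, hne⟩

/-- A coherent submodule of a coherent module with prescribed stalks at finitely many closed
points, equal to the module elsewhere. -/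
theorem exists_lattice [IsLocallyNoetherian X] (M : X.Modules) (hM : Coh.IsCoh M) (S : Set X)
    (hS : S.Finite) (hcl : ∀ x ∈ S, IsClosed ({x} : Set X))
    (N : ∀ x : X, Submodule (X.presheaf.stalk x) (M.presheaf.stalk x))
    (hN : ∀ x ∈ S, ∀ r ∈ IsLocalRing.maximalIdeal (X.presheaf.stalk x), ∀ m : M.presheaf.stalk x,
      ∃ k : ℕ, r ^ k • m ∈ N x) :
    ∃ (G : X.Modules) (ι : G ⟶ M), Coh.IsCoh G ∧ Mono ι ∧
      (∀ x ∈ S, LinearMap.range (stalkLin ι x) = N x) ∧
      (∀ x ∉ S, Function.Bijective (stalkLin ι x)) ∧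
      ∀ (F : X.Modules) (f : F ⟶ M), (∀ x ∈ S, LinearMap.range (stalkLin f x) ≤ N x) →
        ∃ g : F ⟶ G, g ≫ ι = f := by
  let pt : S → X := Subtype.val
  let Q : S → Type u := fun i => M.presheaf.stalk i.1 ⧸ N i.1
  let φ : M ⟶ msky pt Q := toMSky (fun i => (N i.1).mkQ)
  have hQ : Coh.IsQCoh (msky pt Q) := by
    apply isQCoh_msky
    · intro x
      haveI : Finite S := hS
      exact ⟨⊤, trivial, Set.toFinite _⟩
    · intro i q a ha
      obtain ⟨m, rfl⟩ := Submodule.Quotient.mk_surjective _ q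
      obtain ⟨k, hk⟩ := hN i.1 i.2 a ha m
      exact ⟨k, by rw [← Submodule.Quotient.mk_smul]; exact (Submodule.Quotient.mk_eq_zero _).2 hk⟩
  have hex : ∀ x : X, Function.Exact (stalkLin (kernel.ι φ) x) (stalkLin φ x) := fun x =>
    stalkLin_exact (ShortComplex.mk (kernel.ι φ) φ (kernel.condition φ))
      (ShortComplex.exact_kernel φ) x
  refine ⟨kernel φ, kernel.ι φ, Ega3B.DevQC.isCoh_kernel φ hM hQ, inferInstance, ?_, ?_, ?_⟩
  · intro x hx
    obtain ⟨U, hxU, hU⟩ := exists_open_of_mem hS hcl x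
    have hinj : Function.Injective (evSt pt Q ⟨x, hx⟩) :=
      evSt_injective ⟨x, hx⟩ U hxU fun j hj => Subtype.ext (hU j.1 j.2 hj)
    rw [← LinearMap.exact_iff.1 (hex x)]
    ext m
    rw [LinearMap.mem_ker]
    have h1 : evSt pt Q ⟨x, hx⟩ (stalkLin φ x m) = (N x).mkQ m :=
      LinearMap.congr_fun (evSt_stalkLin_toMSky (pt := pt) (Q := Q) (fun i => (N i.1).mkQ) ⟨x, hx⟩) m
    constructor
    · intro h0
      rw [h0, map_zero] at h1
      exact (Submodule.Quotient.mk_eq_zero _).1 h1.symm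
    · intro hm
      apply hinj
      rw [h1, map_zero]
      exact (Submodule.Quotient.mk_eq_zero _).2 hm
  · intro x hx
    refine ⟨stalkLin_injective _ x, fun m => ?_⟩
    obtain ⟨U, hxU, hU⟩ := exists_open_of_mem hS hcl x
    have hsub : Subsingleton ((msky pt Q).presheaf.stalk x) :=
      stalk_subsingleton x U hxU fun j hj => hx (hU j.1 j.2 hj ▸ j.2)
    exact (hex x m).1 (Subsingleton.elim _ _)
  · intro F f hf
    refine ⟨kernel.lift φ f ?_, kernel.lift_ι φ f _⟩
    apply Scheme.Modules.hom_ext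
    intro U
    ext s
    refine (funext fun i => funext fun h => ?_ : (_ : Sec pt Q U) = _)
    change (N i.1).mkQ (M.presheaf.germ U (pt i) h.down (f.app U s)) = 0
    rw [← stalkLin_germ]
    exact (Submodule.Quotient.mk_eq_zero _).2 (hf i.1 i.2 ⟨_, rfl⟩)

end K977.Lattice
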