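import Groth.Agent.TFNodal.K977.NodeAlg
import Mathlib.RingTheory.Localization.LocalizationLocalization
import Mathlib.RingTheory.Localization.Finiteness
import Mathlib.RingTheory.Support

/-!
# The normalization of a nodal local ring from a finite extension of rings
-/

set_option autoImplicit false
set_option linter.style.haveILetI false
set_option linter.unusedSectionVars false
universe u

open IsLocalRing

namespace K977.NodeLoc

open K977.NodeAlg

section

variable {A₀ B₀ O B : Type u} [CommRing A₀] [CommRing B₀] [CommRing O] [CommRing B] [IsLocalRing O]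
  [Algebra A₀ B₀] [Algebra A₀ O] [Algebra B₀ B] [Algebra O B] [Algebra A₀ B]
  [IsScalarTower A₀ B₀ B] [IsScalarTower A₀ O B] (p : Ideal A₀) [p.IsPrime]
  [IsLocalization.AtPrime O p] [IsLocalization (Algebra.algebraMapSubmonoid B₀ p.primeCompl) B]

include p

theorem injective_of (hinj : Function.Injective (algebraMap A₀ B₀)) :
    Function.Injective (algebraMap O B) := by
  rw [injective_iff_map_eq_zero]
  intro x hx
  obtain ⟨⟨a, s⟩, hs⟩ := IsLocalization.surj (M := p.primeCompl) x
  have h1 : algebraMap B₀ B (algebraMap A₀ B₀ a) = 0 := by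
    rw [← IsScalarTower.algebraMap_apply A₀ B₀ B, IsScalarTower.algebraMap_apply A₀ O B, ← hs,
      map_mul, hx, zero_mul]
  obtain ⟨⟨m, hm⟩, h2⟩ := (IsLocalization.map_eq_zero_iff
    (Algebra.algebraMapSubmonoid B₀ p.primeCompl) B _).1 h1
  obtain ⟨s', hs', rfl⟩ := hm
  have h3 : s' * a = 0 := hinj (by rw [map_mul, map_zero]; exact h2)
  have h4 : algebraMap A₀ O a = 0 := (IsLocalization.map_eq_zero_iff p.primeCompl O a).2
    ⟨⟨s', hs'⟩, h3⟩
  rw [h4] at hs
  exact (IsLocalization.map_units O s).mul_left_eq_zero.1 hs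

/-- Elements of `B` as fractions. -/
theorem exists_frac (a : B) : ∃ (b : B₀) (s : A₀), s ∉ p ∧
    a * algebraMap A₀ B s = algebraMap B₀ B b := by
  obtain ⟨⟨b, ⟨m, hm⟩⟩, hs⟩ := IsLocalization.surj (M := Algebra.algebraMapSubmonoid B₀ p.primeCompl) a
  obtain ⟨s', hs', rfl⟩ := hm
  refine ⟨b, s', hs', ?_⟩
  rw [IsScalarTower.algebraMap_apply A₀ B₀ B]
  exact hs

theorem exists_inv {s : A₀} (hs : s ∉ p) : ∃ t : O, t * algebraMap A₀ O s = 1 :=
  (IsLocalization.map_units O (⟨s, hs⟩ : p.primeCompl)).exists_left_inv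

theorem locDVR_of [Algebra.IsIntegral O B]
    (hdvr : ∀ (q : Ideal B₀) (_ : q.IsPrime), q.comap (algebraMap A₀ B₀) = p →
      ∃ (_ : IsDomain (Localization.AtPrime q)), IsDiscreteValuationRing (Localization.AtPrime q)) :
    LocDVR B := by
  intro P hP
  have hPO : P.comap (algebraMap O B) = maximalIdeal O :=
    IsLocalRing.eq_maximalIdeal (Ideal.isMaximal_comap_of_isIntegral_of_isMaximal P)
  have hq : (P.comap (algebraMap B₀ B)).IsPrime := Ideal.comap_isPrime _ _
  have hqp : (P.comap (algebraMap B₀ B)).comap (algebraMap A₀ B₀) = p := by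
    rw [Ideal.comap_comap, ← IsScalarTower.algebraMap_eq, IsScalarTower.algebraMap_eq A₀ O B,
      ← Ideal.comap_comap, hPO]
    exact IsLocalization.AtPrime.under_maximalIdeal O p
  obtain ⟨h1, h2⟩ := hdvr _ hq hqp
  have hloc : IsLocalization.AtPrime (Localization.AtPrime P) (P.comap (algebraMap B₀ B)) :=
    IsLocalization.isLocalization_isLocalization_atPrime_isLocalization
      (Algebra.algebraMapSubmonoid B₀ p.primeCompl) (Localization.AtPrime P) P
  let e : Localization.AtPrime (P.comap (algebraMap B₀ B)) ≃ₐ[B₀] Localization.AtPrime P :=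
    IsLocalization.algEquiv (P.comap (algebraMap B₀ B)).primeCompl _ _
  have hd : IsDomain (Localization.AtPrime P) := e.symm.toRingEquiv.toMulEquiv.isDomain _
  exact ⟨hd, _root_.IsDiscreteValuationRing.RingEquivClass.isDiscreteValuationRing e⟩

/-- the conductor contains a power of the maximal ideal -/
theorem exists_pow_of [IsNoetherianRing O] [Module.Finite O B]
    (h : ∀ P : Ideal O, P.IsPrime → P ≠ maximalIdeal O → ∃ f : A₀, algebraMap A₀ O f ∉ P ∧
      ∀ b : B₀, ∃ (n : ℕ) (a : A₀), algebraMap A₀ B₀ (f ^ n) * b = algebraMap A₀ B₀ a) :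
    ∃ N : ℕ, ∀ a ∈ maximalIdeal O ^ N, ∀ b : B,
      algebraMap O B a * b ∈ (algebraMap O B).range := by
  let R : Submodule O B := LinearMap.range (Algebra.linearMap O B)
  have hle : maximalIdeal O ≤ (Module.annihilator O (B ⧸ R)).radical := by
    rw [Ideal.radical_eq_sInf]
    refine le_sInf fun P hP => ?_
    obtain ⟨hP1, hP2⟩ := hP
    by_contra hne
    obtain ⟨f, hf, hf'⟩ := h P hP2 (fun e => hne e.ge)
    have hmem : (⟨P, hP2⟩ : PrimeSpectrum O) ∈ Module.support O (B ⧸ R) := by
      rw [Module.support_eq_zeroLocus, PrimeSpectrum.mem_zeroLocus]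
      exact hP1
    obtain ⟨c, hc⟩ := Module.mem_support_iff'.1 hmem
    obtain ⟨b, rfl⟩ := Submodule.Quotient.mk_surjective _ c
    obtain ⟨b₀, s, hs, hb⟩ := exists_frac (B₀ := B₀) p b
    obtain ⟨t, ht⟩ := exists_inv (O := O) p hs
    obtain ⟨n, a, ha⟩ := hf' b₀
    refine hc (algebraMap A₀ O f ^ n) (fun hmem => hf (hP2.mem_of_pow_mem n hmem)) ?_
    rw [← Submodule.Quotient.mk_smul, Submodule.Quotient.mk_eq_zero]
    refine ⟨t * algebraMap A₀ O a, ?_⟩
    change algebraMap O B _ = _
    have ht' : algebraMap O B t * algebraMap A₀ B s = 1 := by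
      rw [IsScalarTower.algebraMap_apply A₀ O B, ← map_mul, ht, map_one]
    have h2 := congrArg (algebraMap B₀ B) ha
    rw [map_mul, ← hb, ← IsScalarTower.algebraMap_apply A₀ B₀ B,
      ← IsScalarTower.algebraMap_apply A₀ B₀ B] at h2
    rw [Algebra.smul_def, map_mul, ← IsScalarTower.algebraMap_apply A₀ O B, ← h2, ← map_pow,
      ← IsScalarTower.algebraMap_apply A₀ O B]
    linear_combination (algebraMap A₀ B (f ^ n) * b) * ht'
  obtain ⟨N, hN⟩ := Ideal.exists_pow_le_of_le_radical_of_fg hle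
    ((isNoetherianRing_iff_ideal_fg O).1 inferInstance _)
  refine ⟨N, fun a ha b => ?_⟩
  have h1 := Module.mem_annihilator.1 (hN ha) (Submodule.Quotient.mk b)
  rw [← Submodule.Quotient.mk_smul, Submodule.Quotient.mk_eq_zero] at h1
  obtain ⟨c, hc⟩ := h1
  exact ⟨c, by rw [← Algebra.smul_def]; exact hc⟩

end

end K977.NodeLoc
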