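import Mathlib.RingTheory.Localization.BaseChange
import Mathlib.RingTheory.IsTensorProduct

/-!
# Localization of base change
-/

set_option autoImplicit false
set_option linter.style.haveILetI false
universe u

open scoped TensorProduct

namespace K977.PushPull

section

variable {A₀ B₀ O B : Type u} [CommRing A₀] [CommRing B₀] [CommRing O]
    [CommRing B] [Algebra A₀ B₀] [Algebra A₀ O] [Algebra B₀ B] [Algebra O B] [Algebra A₀ B]
    [IsScalarTower A₀ B₀ B] [IsScalarTower A₀ O B] (M : Submonoid A₀) [IsLocalization M O]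
    [IsLocalization (Algebra.algebraMapSubmonoid B₀ M) B]
    {F₀ N P₀ P T : Type u} [AddCommGroup F₀] [AddCommGroup N] [AddCommGroup P₀] [AddCommGroup P]
    [Module A₀ F₀] [Module A₀ N] [Module O N] [IsScalarTower A₀ O N] [Module A₀ P₀] [Module B₀ P₀]
    [IsScalarTower A₀ B₀ P₀] [Module A₀ P] [Module O P] [IsScalarTower A₀ O P]
    [AddCommGroup T] [Module O T] [Module B T] [IsScalarTower O B T]

include M

theorem exists_equiv_of_isBaseChange (j : N →ₗ[O] T) (hj : IsBaseChange B j)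
    (g : F₀ →ₗ[A₀] N) (hg : IsBaseChange O g) (u₀ : F₀ →ₗ[A₀] P₀) (hu₀ : IsBaseChange B₀ u₀)
    (h : P₀ →ₗ[A₀] P) (hh : IsBaseChange O h) (u : N →ₗ[O] P) (hu : ∀ s, u (g s) = h (u₀ s)) :
    ∃ e : T ≃ₗ[O] P, ∀ n, e (j n) = u n := by
  letI m1 : Module B₀ T := Module.compHom _ (algebraMap B₀ B)
  haveI t1 : IsScalarTower B₀ B T := ⟨fun a b c => by
    rw [Algebra.smul_def, mul_smul]; rfl⟩
  letI m2 : Module A₀ T := Module.compHom _ (algebraMap A₀ B)
  haveI t2 : IsScalarTower A₀ B T := ⟨fun a b c => by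
    rw [Algebra.smul_def, mul_smul]; rfl⟩
  haveI t3 : IsScalarTower A₀ B₀ T := ⟨fun a b c => by
    rw [Algebra.smul_def]
    change algebraMap B₀ B (_ * _) • c = algebraMap A₀ B a • algebraMap B₀ B b • c
    rw [map_mul, mul_smul, ← IsScalarTower.algebraMap_apply]⟩
  haveI t4 : IsScalarTower A₀ O T := ⟨fun a b c => by
    rw [Algebra.smul_def, mul_smul]
    change _ = algebraMap A₀ B a • b • c
    rw [IsScalarTower.algebraMap_apply A₀ O B]
    exact (algebraMap_smul B (algebraMap A₀ O a) (b • c)).symm⟩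
  have h2 : IsBaseChange B ((j.restrictScalars A₀).comp g) := hg.comp hj
  let κ : P₀ →ₗ[B₀] T := hu₀.lift ((j.restrictScalars A₀).comp g)
  have hκ : ∀ s, κ (u₀ s) = j (g s) := fun s => hu₀.lift_eq _ s
  have h3 : IsBaseChange B κ := by
    apply IsBaseChange.of_comp hu₀
    have : (κ : P₀ →ₗ[A₀] T) ∘ₗ u₀ = ((j.restrictScalars A₀).comp g) := by
      ext s
      exact hκ s
    rw [this]
    exact h2
  have h4 : IsLocalizedModule (Algebra.algebraMapSubmonoid B₀ M) κ :=
    (isLocalizedModule_iff_isBaseChange _ B _).2 h3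
  have h5 : IsLocalizedModule M (κ.restrictScalars A₀) :=
    IsLocalizedModule.restrictScalars M κ
  have h6 : IsBaseChange O (κ.restrictScalars A₀) :=
    (isLocalizedModule_iff_isBaseChange M O _).1 h5
  let e : T ≃ₗ[O] P := h6.equiv.symm.trans hh.equiv
  have he : ∀ p, e (κ p) = h p := by
    intro p
    have : (κ p : T) = h6.equiv (1 ⊗ₜ p) := by
      rw [IsBaseChange.equiv_tmul, one_smul]
      rfl
    rw [this]
    change hh.equiv (h6.equiv.symm _) = _
    rw [LinearEquiv.symm_apply_apply, IsBaseChange.equiv_tmul, one_smul]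
  refine ⟨e, fun n => ?_⟩
  have key : e.toLinearMap ∘ₗ j = u := by
    apply hg.algHom_ext
    intro s
    change e (j (g s)) = u (g s)
    rw [hu, ← hκ, he]
  exact LinearMap.congr_fun key n

theorem exists_equiv_tensor
    (g : F₀ →ₗ[A₀] N) (hg : IsBaseChange O g) (u₀ : F₀ →ₗ[A₀] P₀) (hu₀ : IsBaseChange B₀ u₀)
    (h : P₀ →ₗ[A₀] P) (hh : IsBaseChange O h) (u : N →ₗ[O] P) (hu : ∀ s, u (g s) = h (u₀ s)) :
    ∃ e : B ⊗[O] N ≃ₗ[O] P, ∀ n, e (1 ⊗ₜ n) = u n :=
  exists_equiv_of_isBaseChange M (TensorProduct.mk O B N 1) (TensorProduct.isBaseChange O N B) g hg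
    u₀ hu₀ h hh u hu

end

end K977.PushPull
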