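import Groth.Agent.TFNodal.K977.Norm
import Mathlib.LinearAlgebra.Dimension.Free
import Mathlib.LinearAlgebra.FreeModule.PID
import Mathlib.LinearAlgebra.Dual.Lemmas
import Mathlib.AlgebraicGeometry.AlgClosed.Basic

/-!
# Local algebra for the cut of `π^* G` at one branch over each node
-/

set_option autoImplicit false
set_option linter.style.haveILetI false
universe u
open CategoryTheory CategoryTheory.Limits AlgebraicGeometry TopologicalSpace
open scoped TensorProduct

namespace K977.SubAlg

open Groth.Agent Groth.Agent.CycB.StalkExact Groth.Agent.Fdesc.PullbackStalk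

theorem exists_equiv_of_smul_mem {O : Type u} [CommRing O] [IsDomain O] [IsPrincipalIdealRing O]
    {M : Type u} [AddCommGroup M] [Module O M] {r : ℕ} (e : M ≃ₗ[O] (Fin r → O))
    (N : Submodule O M) (t : O) (ht : t ≠ 0) (hN : ∀ m : M, t • m ∈ N) :
    Nonempty (N ≃ₗ[O] (Fin r → O)) := by
  haveI : Module.Finite O M := Module.Finite.equiv e.symm
  haveI : IsNoetherianRing O := inferInstance
  haveI : Module.Free O M := Module.Free.of_equiv e.symm
  haveI : Module.IsTorsionFree O M := TFNorm.isTorsionFree_of_equiv e
  haveI : Module.Finite O N := inferInstance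
  haveI : Module.Free O N := inferInstance
  have h1 : Module.finrank O N ≤ Module.finrank O M := Submodule.finrank_le N
  have h2 : Module.finrank O M ≤ Module.finrank O N := by
    let f : M →ₗ[O] N := LinearMap.codRestrict N (LinearMap.lsmul O M t) hN
    apply LinearMap.finrank_le_finrank_of_injective (f := f)
    intro a b hab
    have h3 : t • a = t • b := congrArg Subtype.val hab
    exact (Module.IsTorsionFree.isSMulRegular (M := M) (IsRegular.of_ne_zero ht)) h3
  have h3 : Module.finrank O N = Module.finrank O (Fin r → O) :=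
    (le_antisymm h1 h2).trans e.finrank_eq
  exact ⟨LinearEquiv.ofFinrankEq _ _ h3⟩

/-- a vector of a module killed by the maximal ideal is detected by a functional with values in
the residue field -/
theorem exists_functional {R : Type u} [CommRing R] [IsLocalRing R] {T : Type u} [AddCommGroup T]
    [Module R T] (hT : ∀ s ∈ IsLocalRing.maximalIdeal R, ∀ t : T, s • t = 0) (t : T) (ht : t ≠ 0) :
    ∃ l : T →ₗ[R] IsLocalRing.ResidueField R, l t ≠ 0 := by
  letI i1 : Module (R ⧸ IsLocalRing.maximalIdeal R) T :=
    Module.IsTorsionBySet.module (fun t s => hT s.1 s.2 t)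
  letI i2 : Module (IsLocalRing.ResidueField R) T := i1
  haveI i3 : IsScalarTower R (IsLocalRing.ResidueField R) T :=
    Module.IsTorsionBySet.isScalarTower (M := T) (S := R)
      (fun t (s : IsLocalRing.maximalIdeal R) => hT s.1 s.2 t)
  by_contra hcon
  push Not at hcon
  apply ht
  rw [← Module.forall_dual_apply_eq_zero_iff (IsLocalRing.ResidueField R) t]
  intro f
  exact hcon (f.restrictScalars R)

section Can

variable {X Y : Scheme.{u}} (π : Y ⟶ X)

/-- `T_{π y} → (π^* T)_y / m_y` is injective if `m T = 0` -/
theorem canAdd_eq_zero (T : X.Modules) (y : Y)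
    (hT : ∀ s ∈ IsLocalRing.maximalIdeal (X.presheaf.stalk (π y)),
      ∀ t : T.presheaf.stalk (π y), s • t = 0)
    (t : T.presheaf.stalk (π y))
    (ht : canAdd π T y t ∈ (IsLocalRing.maximalIdeal (Y.presheaf.stalk y) •
      (⊤ : Submodule (Y.presheaf.stalk y) (((Scheme.Modules.pullback π).obj T).presheaf.stalk y)))) :
    t = 0 := by
  by_contra hne
  obtain ⟨l, hl⟩ := exists_functional hT t hne
  let κ := IsLocalRing.ResidueField (Y.presheaf.stalk y)
  let g : T.presheaf.stalk (π y) →+ κ :=
    (IsLocalRing.ResidueField.map (π.stalkMap y).hom).toAddMonoidHom.comp l.toAddMonoidHom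
  have hg : ∀ (r : X.presheaf.stalk (π y)) (t : T.presheaf.stalk (π y)),
      g (r • t) = π.stalkMap y r • g t := by
    intro r t
    change IsLocalRing.ResidueField.map (π.stalkMap y).hom (l (r • t)) =
      π.stalkMap y r • IsLocalRing.ResidueField.map (π.stalkMap y).hom (l t)
    rw [map_smul, Algebra.smul_def, map_mul, Algebra.smul_def]
    rfl
  have h1 : lift π g hg (canAdd π T y t) = g t := lift_canAdd π g hg t
  have h2 : ∀ w ∈ (IsLocalRing.maximalIdeal (Y.presheaf.stalk y) •
      (⊤ : Submodule (Y.presheaf.stalk y) (((Scheme.Modules.pullback π).obj T).presheaf.stalk y))),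
      lift π g hg w = 0 := by
    intro w hw
    refine Submodule.smul_induction_on hw ?_ ?_
    · intro s hs m _
      rw [map_smul, Algebra.smul_def]
      have : algebraMap (Y.presheaf.stalk y) κ s = 0 := (IsLocalRing.residue_eq_zero_iff s).2 hs
      rw [this, zero_mul]
    · intro a b ha hb
      rw [map_add, ha, hb, add_zero]
  rw [h2 _ ht] at h1
  apply hl
  exact (map_eq_zero (IsLocalRing.ResidueField.map (π.stalkMap y).hom)).1 h1.symm

/-- `T_{π y} → (π^* T)_y / m_y` is surjective if the residue fields agree -/
theorem exists_sub_canAdd_mem (T : X.Modules) (y : Y)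
    (hres : ∀ a : Y.presheaf.stalk y, ∃ b : X.presheaf.stalk (π y),
      a - π.stalkMap y b ∈ IsLocalRing.maximalIdeal (Y.presheaf.stalk y))
    (w : ((Scheme.Modules.pullback π).obj T).presheaf.stalk y) :
    ∃ t : T.presheaf.stalk (π y), w - canAdd π T y t ∈
      (IsLocalRing.maximalIdeal (Y.presheaf.stalk y) •
      (⊤ : Submodule (Y.presheaf.stalk y) (((Scheme.Modules.pullback π).obj T).presheaf.stalk y))) := by
  have hw : w ∈ Submodule.span (Y.presheaf.stalk y) (Set.range (canAdd π T y)) := by
    rw [span_range_canAdd]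
    trivial
  induction hw using Submodule.span_induction with
  | mem w hw =>
    obtain ⟨t, rfl⟩ := hw
    exact ⟨t, by rw [sub_self]; exact Submodule.zero_mem _⟩
  | zero => exact ⟨0, by rw [map_zero, sub_zero]; exact Submodule.zero_mem _⟩
  | add w w' _ _ h h' =>
    obtain ⟨t, ht⟩ := h
    obtain ⟨t', ht'⟩ := h'
    refine ⟨t + t', ?_⟩
    rw [map_add]
    have := Submodule.add_mem _ ht ht'
    convert this using 1
    abel
  | smul a w _ h =>
    obtain ⟨t, ht⟩ := h
    obtain ⟨b, hb⟩ := hres a
    refine ⟨b • t, ?_⟩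
    rw [canAdd_smul]
    have h1 := Submodule.smul_mem _ a ht
    have h2 : (a - π.stalkMap y b) • canAdd π T y t ∈
        (IsLocalRing.maximalIdeal (Y.presheaf.stalk y) •
      (⊤ : Submodule (Y.presheaf.stalk y) (((Scheme.Modules.pullback π).obj T).presheaf.stalk y))) :=
      Submodule.smul_mem_smul hb trivial
    have h3 := Submodule.add_mem _ h1 h2
    convert h3 using 1
    rw [smul_sub, sub_smul]
    abel

end Can

/-- residue fields of closed points over an algebraically closed field -/
theorem exists_res {k : Type u} [Field k] [IsAlgClosed k] {X Y : Scheme.{u}} (π : Y ⟶ X)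
    (f : X ⟶ Spec (CommRingCat.of k)) [LocallyOfFiniteType (π ≫ f)] (y : Y)
    (hy : IsClosed ({y} : Set Y)) (a : Y.presheaf.stalk y) :
    ∃ b : X.presheaf.stalk (π y),
      a - π.stalkMap y b ∈ IsLocalRing.maximalIdeal (Y.presheaf.stalk y) := by
  let i := residueFieldIsoBase (π ≫ f) y hy
  let j : CommRingCat.of k ⟶ X.residueField (π y) :=
    Spec.preimage (X.fromSpecResidueField (π y) ≫ f)
  have h1 : i.inv = j ≫ π.residueFieldMap y := by
    apply Spec.map_injective
    rw [SpecMap_residueFieldIsoBase_inv, Spec.map_comp, Spec.map_preimage,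
      ← Category.assoc, ← Category.assoc, Scheme.Hom.SpecMap_residueFieldMap_fromSpecResidueField]
  obtain ⟨b, hb⟩ := X.residue_surjective (π y) (j (i.hom (Y.residue y a)))
  refine ⟨b, ?_⟩
  rw [← IsLocalRing.residue_eq_zero_iff, map_sub, sub_eq_zero]
  have h2 : π.residueFieldMap y (X.residue (π y) b) = Y.residue y (π.stalkMap y b) := by
    exact congr($(Scheme.residue_residueFieldMap π y) b)
  have h3 : π.residueFieldMap y (j (i.hom (Y.residue y a))) = Y.residue y a := by
    have := congr($h1 (i.hom (Y.residue y a)))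
    rw [← CommRingCat.comp_apply, i.hom_inv_id] at this
    exact this.symm
  rw [hb] at h2
  exact h3.symm.trans h2

end K977.SubAlg
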